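import Cfsg.Agent.BGroups.Quaternion

/-!
The action on an elementary abelian normal Sylow subgroup of a solvable group with conjugate
abelian subgroups.
-/

set_option autoImplicit false
set_option linter.style.haveILetI false

namespace CfsgLib.BGroups

open Subgroup CfsgLib.AbelianConj
open scoped IsMulCommutative

variable {G : Type*} [Group G] [Finite G]

/-- Conjugation on a commutative normal subgroup, as additive endomorphisms. -/
noncomputable def conjEnd (P : Subgroup G) [P.Normal] [IsMulCommutative ↥P] :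
    G →* AddMonoid.End (Additive ↥P) where
  toFun g := MonoidHom.toAdditive (MulAut.conjNormal (H := P) g).toMonoidHom
  map_one' := by
    refine AddMonoidHom.ext fun v => Additive.toMul.injective ?_
    show MulAut.conjNormal (H := P) 1 v.toMul = v.toMul
    rw [map_one, MulAut.one_apply]
  map_mul' a b := by
    refine AddMonoidHom.ext fun v => ?_
    apply Additive.toMul.injective
    show MulAut.conjNormal (H := P) (a * b) v.toMul =
      MulAut.conjNormal a (MulAut.conjNormal b v.toMul)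
    rw [map_mul, MulAut.mul_apply]

omit [Finite G] in
theorem conjEnd_apply (P : Subgroup G) [P.Normal] [IsMulCommutative ↥P] (g : G) (v : Additive ↥P) :
    ((conjEnd P g v).toMul : G) = g * (v.toMul : G) * g⁻¹ :=
  MulAut.conjNormal_apply g v.toMul

omit [Finite G] in
theorem centralizer_le_ker (P : Subgroup G) [P.Normal] [IsMulCommutative ↥P] :
    centralizer (P : Set G) ≤ (conjEnd P).ker := by
  intro g hg
  rw [MonoidHom.mem_ker]
  refine AddMonoidHom.ext fun v => Additive.toMul.injective (Subtype.ext ?_)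
  show ((conjEnd P g v).toMul : G) = (v.toMul : G)
  rw [conjEnd_apply, ← (mem_centralizer_iff.mp hg) _ v.toMul.2, mul_assoc, mul_inv_cancel, mul_one]

/-- The action of `G ⧸ C(P)` on `P`. -/
noncomputable def quotEnd (P : Subgroup G) [P.Normal] [IsMulCommutative ↥P] :
    (G ⧸ centralizer (P : Set G)) →* AddMonoid.End (Additive ↥P) :=
  QuotientGroup.lift _ (conjEnd P) (centralizer_le_ker P)

omit [Finite G] in
theorem quotEnd_mk (P : Subgroup G) [P.Normal] [IsMulCommutative ↥P] (g : G) :
    quotEnd P (QuotientGroup.mk' (centralizer (P : Set G)) g) = conjEnd P g :=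
  QuotientGroup.lift_mk' _ _ _

/-- Hypotheses on a component: an elementary abelian normal Sylow subgroup. -/
structure IsComp (p : ℕ) (P : Subgroup G) : Prop where
  normal : P.Normal
  comm : IsMulCommutative ↥P
  exp : ∀ x ∈ P, x ^ p = 1
  ne_bot : P ≠ ⊥
  hall : ¬ p ∣ P.index

theorem IsComp.lineAction [Group.IsSolvable G] (hB : Hyp G) {p : ℕ} [hp : Fact p.Prime]
    {P : Subgroup G} [P.Normal] [IsMulCommutative ↥P] (hP : IsComp p P) :
    LineAction (G ⧸ centralizer (P : Set G)) (Additive ↥P) p (quotEnd P) := by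
  have hexp : ∀ v : Additive ↥P, p • v = 0 := fun v =>
    Additive.toMul.injective (Subtype.ext (by rw [toMul_nsmul, SubgroupClass.coe_pow, hP.exp _ v.toMul.2]; rfl))
  have hord : ∀ v : Additive ↥P, v ≠ 0 → orderOf (v.toMul : G) = p := fun v hv =>
    orderOf_eq_prime (hP.exp _ v.toMul.2) fun h => hv (Additive.toMul.injective (Subtype.ext h))
  refine ⟨inferInstance, AbelianConj.hyp_quotient hB (smallQuaternion_of_solvable hB _), ?_,
    hp.out, hexp, ?_, ?_, ?_⟩
  · refine (injective_iff_map_eq_one _).mpr fun q hq => ?_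
    obtain ⟨g, rfl⟩ := QuotientGroup.mk'_surjective _ q
    rw [quotEnd_mk] at hq
    refine (QuotientGroup.eq_one_iff g).mpr (mem_centralizer_iff.mpr fun v hv => ?_)
    have h1 := conjEnd_apply P g (Additive.ofMul ⟨v, hv⟩)
    rw [hq] at h1
    exact (mul_inv_eq_iff_eq_mul.mp h1.symm).symm
  · obtain ⟨x, hx, hx1⟩ : ∃ x ∈ P, x ≠ 1 := by
      by_contra hcon
      push Not at hcon
      exact hP.ne_bot ((Subgroup.eq_bot_iff_forall _).mpr hcon)
    exact ⟨Additive.ofMul ⟨x, hx⟩, fun h => hx1 (congrArg (fun v => ((Additive.toMul v : ↥P) : G)) h)⟩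
  · have hle : P ≤ centralizer (P : Set G) := Subgroup.le_centralizer_iff_isMulCommutative.mpr inferInstance
    refine Nat.Coprime.symm (hp.out.coprime_iff_not_dvd.mpr fun h => hP.hall ?_)
    have h' : p ∣ (centralizer (P : Set G)).index := by rw [Subgroup.index_eq_card]; exact h
    exact h'.trans (Subgroup.index_dvd_of_le hle)
  · intro v w hv hw
    obtain ⟨g, hg⟩ := exists_conj_mem hB ((hord w hw).trans (hord v hv).symm)
    obtain ⟨k, hk⟩ := mem_powers_iff_mem_zpowers.mpr hg
    refine ⟨QuotientGroup.mk' _ g, k, ?_⟩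
    rw [quotEnd_mk]
    refine Additive.toMul.injective (Subtype.ext ?_)
    rw [conjEnd_apply, toMul_nsmul, SubgroupClass.coe_pow]
    exact hk.symm

namespace LineAction

variable {H : Type*} [Group H] [Finite H] {M : Type*} [AddCommGroup M] [Finite M] {p : ℕ}
  {ρ : H →* AddMonoid.End M}

/-- With a quaternion Sylow 2-subgroup there is no proper invariant subgroup. -/
theorem irreducible_of_q8 (L : LineAction H M p ρ) (Q : Sylow 2 H)
    (e : ↥(Q : Subgroup H) ≃* QuaternionGroup 2) {U : AddSubgroup M}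
    (hU : ∀ h ∈ (Q : Subgroup H), ∀ v ∈ U, ρ h v ∈ U) : U = ⊥ ∨ U = ⊤ := by
  haveI := Fact.mk L.prime
  haveI hn := L.sylow_two_normal Q e
  set i : H := ((e.symm (QuaternionGroup.a 1) : ↥(Q : Subgroup H)) : H) with hi
  set j : H := ((e.symm (QuaternionGroup.xa 0) : ↥(Q : Subgroup H)) : H) with hj
  set z : H := i * i with hz
  have hiQ : i ∈ (Q : Subgroup H) := (e.symm _).2
  have hjQ : j ∈ (Q : Subgroup H) := (e.symm _).2
  have hjj : j * j = z := by
    rw [hz, hi, hj, ← Subgroup.coe_mul, ← Subgroup.coe_mul, ← map_mul, ← map_mul]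
    congr 2
  have hji : j * i = z * (i * j) := by
    rw [hz, hi, hj, ← Subgroup.coe_mul, ← Subgroup.coe_mul, ← Subgroup.coe_mul, ← Subgroup.coe_mul,
      ← map_mul, ← map_mul, ← map_mul, ← map_mul]
    congr 2
  have hz1 : z ≠ 1 := by
    intro h
    rw [hz, hi, ← Subgroup.coe_mul, ← map_mul, OneMemClass.coe_eq_one, MulEquiv.map_eq_one_iff] at h
    revert h
    decide
  have hzQ : z ∈ (Q : Subgroup H) := mul_mem hiQ hiQ
  have hzsq : z * z = 1 := by
    rw [hz, hi, ← Subgroup.coe_mul, ← map_mul, ← Subgroup.coe_mul, ← map_mul,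
      OneMemClass.coe_eq_one, MulEquiv.map_eq_one_iff]
    decide
  have huniq : ∀ b : QuaternionGroup 2, b * b = 1 → b = 1 ∨ b = QuaternionGroup.a 1 * QuaternionGroup.a 1 := by
    decide
  have hzc : ∀ h : H, h * z = z * h := by
    intro h
    have hmem : h * z * h⁻¹ ∈ (Q : Subgroup H) := hn.conj_mem _ hzQ h
    have hsq : h * z * h⁻¹ * (h * z * h⁻¹) = 1 := by
      rw [show h * z * h⁻¹ * (h * z * h⁻¹) = h * (z * z) * h⁻¹ by group, hzsq, mul_one, mul_inv_cancel]
    rcases huniq (e ⟨_, hmem⟩) (by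
      rw [← map_mul, show (⟨_, hmem⟩ : ↥(Q : Subgroup H)) * ⟨_, hmem⟩ = 1 from Subtype.ext hsq, map_one])
      with h1 | h1
    · exfalso
      rw [MulEquiv.map_eq_one_iff] at h1
      have := congrArg Subtype.val h1
      simp only [OneMemClass.coe_one, mul_inv_eq_one, mul_eq_left] at this
      exact hz1 this
    · have h2 : h * z * h⁻¹ = z := by
        rw [← MulEquiv.eq_symm_apply] at h1
        have h3 : h * z * h⁻¹ = ((e.symm (QuaternionGroup.a 1 * QuaternionGroup.a 1) :
          ↥(Q : Subgroup H)) : H) := congrArg Subtype.val h1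
        rw [h3, map_mul, Subgroup.coe_mul]
      exact mul_inv_eq_iff_eq_mul.mp h2
  have hneg : ∀ v : M, ρ z v = -v := by
    have hfix : ∀ v : M, ρ z v = v → v = 0 := by
      intro v hv
      by_contra hv0
      refine hz1 (L.inj (AddMonoidHom.ext fun w => ?_))
      rcases eq_or_ne w 0 with rfl | hw
      · exact (AddMonoidHom.map_zero (ρ z)).trans (AddMonoidHom.map_zero (ρ 1)).symm
      obtain ⟨h, k, hk⟩ := L.trans v w hv0 hw
      have h1 : ρ h (ρ z w) = ρ h w := by
        rw [← rho_mul, hzc, rho_mul, hk, map_nsmul, hv]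
      have h2 := congrArg (ρ h⁻¹) h1
      simp only [← rho_mul] at h2
      simp only [inv_mul_cancel, inv_mul_cancel_left, rho_one] at h2
      rw [map_one]
      exact h2
    intro v
    have h1 := hfix (v + ρ z v) (by rw [map_add, ← rho_mul, hzsq, rho_one, add_comm])
    exact eq_neg_of_add_eq_zero_right h1
  have hodd : p ≠ 2 := by
    intro h
    have h2 : 2 ∣ Nat.card H := by
      have h3 : orderOf z = 2 := orderOf_eq_prime (by rw [pow_two, hzsq]) hz1
      exact h3 ▸ orderOf_dvd_natCard z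
    have := L.cop
    rw [h] at this
    exact (Nat.prime_two.coprime_iff_not_dvd.mp this.symm) h2
  have hQP : QPair (ρ i) (ρ j) p := ⟨L.exp, hodd, fun v => by rw [← rho_mul, ← hz, hneg],
    fun v => by rw [← rho_mul, hjj, hneg],
    fun v => by rw [← rho_mul, ← rho_mul, hji, rho_mul, hneg]⟩
  -- invariance under `i` and `j` is invariance under `Q`
  have hQinv : ∀ W : AddSubgroup M, QInv (ρ i) (ρ j) W → ∀ h ∈ (Q : Subgroup H), ∀ v ∈ W, ρ h v ∈ W := by
    intro W hW h hh
    have key : ∀ b : QuaternionGroup 2, ∃ m < 4, ∃ n < 4,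
        b = QuaternionGroup.a 1 ^ m * QuaternionGroup.xa 0 ^ n := by decide
    obtain ⟨m, -, n, -, hb⟩ := key (e ⟨h, hh⟩)
    have hh' : h = i ^ m * j ^ n := by
      rw [← MulEquiv.eq_symm_apply, map_mul, map_pow, map_pow] at hb
      have := congrArg Subtype.val hb
      simpa [hi, hj] using this
    have hpow : ∀ (g : H), (∀ v ∈ W, ρ g v ∈ W) → ∀ n : ℕ, ∀ v ∈ W, ρ (g ^ n) v ∈ W := by
      intro g hg n
      induction n with
      | zero => intro v hv; rwa [pow_zero, rho_one]
      | succ n ih => intro v hv; rw [pow_succ', rho_mul]; exact hg _ (ih v hv)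
    intro v hv
    rw [hh', rho_mul]
    exact hpow i (fun v hv => (hW v hv).1) m _ (hpow j (fun v hv => (hW v hv).2) n v hv)
  rcases eq_or_ne U ⊥ with h | h
  · exact Or.inl h
  refine Or.inr (hQP.irreducible (fun v hv => ?_) (fun v hv => ⟨hU i hiQ v hv, hU j hjQ v hv⟩) h)
  obtain ⟨v₀, hv₀, W₀, hv₀W, hW₀, hc₀⟩ := hQP.exists_small L.nontriv
  obtain ⟨h, k, hk⟩ := L.trans v₀ v hv₀ hv
  refine ⟨W₀.comap (ρ h), ?_, ?_, le_trans ?_ hc₀⟩
  · show ρ h v ∈ W₀
    rw [hk]; exact nsmul_mem hv₀W k
  · intro w hw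
    change ρ h w ∈ W₀ at hw
    refine ⟨show ρ h (ρ i w) ∈ W₀ from ?_, show ρ h (ρ j w) ∈ W₀ from ?_⟩
    · rw [← rho_mul, show h * i = h * i * h⁻¹ * h by group, rho_mul]
      exact hQinv _ hW₀ _ (hn.conj_mem _ hiQ h) _ hw
    · rw [← rho_mul, show h * j = h * j * h⁻¹ * h by group, rho_mul]
      exact hQinv _ hW₀ _ (hn.conj_mem _ hjQ h) _ hw
  · refine Nat.card_le_card_of_injective (fun w => ⟨ρ h w.1, w.2⟩) fun a b hab => Subtype.ext ?_
    have := congrArg (fun u : W₀ => ρ h⁻¹ u.1) hab
    simpa only [← rho_mul, inv_mul_cancel, rho_one] using this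

end LineAction

end CfsgLib.BGroups
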