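import Cfsg.Agent.BGroups.Local
import Cfsg.Agent.Solvable.SchurZassenhaus

/-!
In a solvable group with cyclic or `Q8` Sylow subgroups and conjugate cyclic subgroups of order
four, subgroups of the same order are conjugate; the inductive tools for the same conclusion.
-/

set_option autoImplicit false
set_option linter.style.haveILetI false

namespace CfsgLib.BGroups

open Subgroup
open scoped Pointwise

universe u

/-- Subgroups of the same order are conjugate. -/
def SameOrderConj (G : Type*) [Group G] : Prop :=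
  ∀ A B : Subgroup G, Nat.card ↥A = Nat.card ↥B → ∃ g : G, B = MulAut.conj g • A

/-- Cyclic or quaternion Sylow subgroups, with one class of cyclic subgroups of order four. -/
structure CycQ (G : Type*) [Group G] : Prop where
  sylow : ∀ (r : ℕ) [Fact r.Prime] (P : Sylow r G),
    IsCyclic ↥(P : Subgroup G) ∨ (r = 2 ∧ Nonempty (↥(P : Subgroup G) ≃* QuaternionGroup 2))
  four : ∀ x y : G, orderOf x = 4 → orderOf y = 4 → ∃ g : G, g * x * g⁻¹ ∈ zpowers y

/-- Reduction modulo the only subgroup of prime order `r`, when it is normal. -/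
theorem sameOrderConj_of_prime_normal {G : Type*} [Group G] [Finite G] [Group.IsSolvable G]
    {r : ℕ} [hr : Fact r.Prime] (N : Subgroup G) [N.Normal] (hN : Nat.card ↥N = r)
    (hall : ∀ x : G, orderOf x = r → x ∈ N) (hQ : SameOrderConj (G ⧸ N)) : SameOrderConj G := by
  intro A B hAB
  set π := QuotientGroup.mk' N
  by_cases hd : r ∣ Nat.card ↥A
  · have hle : ∀ C : Subgroup G, r ∣ Nat.card ↥C → N ≤ C := by
      intro C hC
      obtain ⟨x, hx⟩ := exists_prime_orderOf_dvd_card' (G := ↥C) r hC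
      rw [← orderOf_coe] at hx
      have : zpowers (x : G) = N := Subgroup.eq_of_le_of_card_ge (zpowers_le.mpr (hall _ hx))
        (by rw [hN, Nat.card_zpowers, hx])
      rw [← this]
      exact zpowers_le.mpr x.2
    have hA := hle A hd
    have hB := hle B (hAB ▸ hd)
    have hcard : ∀ C : Subgroup G, N ≤ C → Nat.card ↥C = Nat.card ↥(C.map π) * r := by
      intro C hC
      have h1 := (C.map π).card_mul_index
      have h2 : (C.map π).index = C.index := Subgroup.index_map_eq C
        (QuotientGroup.mk'_surjective N) (by rwa [QuotientGroup.ker_mk'])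
      have h3 := C.card_mul_index
      rw [N.card_eq_card_quotient_mul_card_subgroup, hN, ← h1, h2] at h3
      refine Nat.eq_of_mul_eq_mul_right (Nat.pos_of_ne_zero C.index_ne_zero_of_finite) ?_
      rw [h3]; ring
    obtain ⟨q, hq⟩ := hQ (A.map π) (B.map π) (Nat.eq_of_mul_eq_mul_right hr.out.pos
      (by rw [← hcard A hA, ← hcard B hB, hAB]))
    obtain ⟨g, rfl⟩ := QuotientGroup.mk'_surjective N q
    refine ⟨g, ?_⟩
    rw [← Solvable.map_conj_smul] at hq
    have hgA : N ≤ MulAut.conj g • A := fun n hn => Solvable.mem_conj_smul.mpr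
      (hA (by simpa using (inferInstance : N.Normal).conj_mem n hn g⁻¹))
    rw [← Solvable.comap_map_mk'_of_le hB, hq, Solvable.comap_map_mk'_of_le hgA]
  · have hdis : ∀ C : Subgroup G, ¬ r ∣ Nat.card ↥C → Disjoint C N := fun C hC =>
      Solvable.disjoint_of_coprime (by rw [hN]; exact hr.out.coprime_iff_not_dvd.mpr hC)
    obtain ⟨q, hq⟩ := hQ (A.map π) (B.map π) (by
      rw [Solvable.card_map_mk'_of_disjoint N A (hdis A hd),
        Solvable.card_map_mk'_of_disjoint N B (hdis B (hAB ▸ hd)), hAB])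
    obtain ⟨g, rfl⟩ := QuotientGroup.mk'_surjective N q
    rw [← Solvable.map_conj_smul] at hq
    set A' := MulAut.conj g • A with hA'
    have hA'card : Nat.card ↥A' = Nat.card ↥A := Solvable.card_conj_smul g A
    have hsup : A' ⊔ N = B ⊔ N := by
      have := congrArg (Subgroup.comap π) hq
      rw [Subgroup.comap_map_eq, Subgroup.comap_map_eq, QuotientGroup.ker_mk'] at this
      exact this.symm
    set L := A' ⊔ N with hL
    have hcL : Nat.card ↥L = Nat.card ↥A * r := by
      rw [hL, Solvable.card_sup_of_disjoint N A' (hdis A' (hA'card.symm ▸ hd)), hA'card, hN]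
    haveI : (N.subgroupOf L).Normal := inferInstance
    have hNL : Nat.card ↥(N.subgroupOf L) = r := by
      rw [Nat.card_congr (Subgroup.subgroupOfEquivOfLe (le_sup_right : N ≤ L)).toEquiv, hN]
    have hidx : (N.subgroupOf L).index = Nat.card ↥A := by
      refine Nat.eq_of_mul_eq_mul_left hr.out.pos ?_
      rw [← hNL, Subgroup.card_mul_index, hcL, hNL, mul_comm]
    obtain ⟨n, -, hn⟩ := Solvable.exists_conj_eq_of_card (N := N.subgroupOf L)
      (H := A'.subgroupOf L) (K := B.subgroupOf L)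
      (by rw [hNL, hidx]; exact hr.out.coprime_iff_not_dvd.mpr hd)
      (by rw [Nat.card_congr (Subgroup.subgroupOfEquivOfLe le_sup_left).toEquiv, hA'card, hidx])
      (by rw [Nat.card_congr (Subgroup.subgroupOfEquivOfLe (hsup ▸ le_sup_left)).toEquiv, ← hAB, hidx])
      (Or.inl inferInstance)
    refine ⟨(n : G) * g, ?_⟩
    have h2 := congrArg (Subgroup.map L.subtype) hn
    rw [Solvable.map_subtype_conj_smul, Subgroup.map_subgroupOf_eq_of_le le_sup_left,
      Subgroup.map_subgroupOf_eq_of_le (hsup ▸ le_sup_left)] at h2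
    rw [map_mul, mul_smul, ← hA', h2]

/-- Subgroups with the same trace `U`, a normal subgroup, on a normal Hall subgroup are conjugate
if a complement has the conjugacy property. -/
theorem conj_of_hall {G : Type*} [Group G] [Finite G] [Group.IsSolvable G] {R T U : Subgroup G}
    [R.Normal] [hU : U.Normal] (hR : (Nat.card ↥R).Coprime R.index)
    (hT : Subgroup.IsComplement' R T) (hTc : SameOrderConj ↥T) {A B : Subgroup G}
    (hA : A ⊓ R = U) (hB : B ⊓ R = U) (hAB : Nat.card ↥A = Nat.card ↥B) :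
    ∃ g : G, B = MulAut.conj g • A := by
  have hUfix : ∀ g : G, MulAut.conj g • U = U := fun g =>
    Solvable.mem_normalizer_iff_conj_smul.mp (by rw [Subgroup.normalizer_eq_top]; exact Subgroup.mem_top g)
  have key : ∀ C : Subgroup G, C ⊓ R = U → ∃ (n : G) (C₁ : Subgroup G), C₁ ≤ T ∧
      MulAut.conj n • C = U ⊔ C₁ ∧ Nat.card ↥U * Nat.card ↥C₁ = Nat.card ↥C := by
    intro C hC
    haveI : (R.subgroupOf C).Normal := inferInstance
    have h1 : Nat.card ↥(R.subgroupOf C) = Nat.card ↥U := by
      rw [← Subgroup.inf_subgroupOf_left, hC,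
        Nat.card_congr (Subgroup.subgroupOfEquivOfLe (hC ▸ inf_le_left : U ≤ C)).toEquiv]
    have h2 : (R.subgroupOf C).index ∣ R.index := Subgroup.relIndex_dvd_index_of_normal R C
    have hco : (Nat.card ↥(R.subgroupOf C)).Coprime (R.subgroupOf C).index := by
      rw [h1]
      exact (hR.coprime_dvd_left (Subgroup.card_dvd_of_le (hC ▸ inf_le_right))).coprime_dvd_right h2
    obtain ⟨C₀, hC₀⟩ := Subgroup.exists_right_complement'_of_coprime hco
    set D := C₀.map C.subtype with hD
    have hDc : Nat.card ↥D = Nat.card ↥C₀ := Subgroup.card_map_of_injective C.subtype_injective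
    have hCD : C = U ⊔ D := by
      have h := congrArg (Subgroup.map C.subtype) hC₀.sup_eq_top
      rw [Subgroup.map_sup, ← MonoidHom.range_eq_map, Subgroup.range_subtype,
        Subgroup.subgroupOf_map_subtype, inf_comm, hC] at h
      exact h.symm
    obtain ⟨n, -, hn⟩ := Solvable.exists_conj_le_of_coprime (Or.inl inferInstance) hT
      (U := D) (by
        rw [hDc, ← hC₀.symm.index_eq_card]
        exact (hR.coprime_dvd_right h2).symm)
    refine ⟨n, MulAut.conj n • D, hn, ?_, ?_⟩
    · rw [hCD, Subgroup.smul_sup, hUfix]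
    · rw [Solvable.card_conj_smul, hDc, ← h1, hC₀.card_mul_card]
  obtain ⟨n, A₁, hA₁, hnA, hcA⟩ := key A hA
  obtain ⟨m, B₁, hB₁, hmB, hcB⟩ := key B hB
  obtain ⟨t, ht⟩ := hTc (A₁.subgroupOf T) (B₁.subgroupOf T) (by
    rw [Nat.card_congr (Subgroup.subgroupOfEquivOfLe hA₁).toEquiv,
      Nat.card_congr (Subgroup.subgroupOfEquivOfLe hB₁).toEquiv]
    exact Nat.eq_of_mul_eq_mul_left Nat.card_pos (hcA.trans (hAB.trans hcB.symm)))
  have h2 := congrArg (Subgroup.map T.subtype) ht
  rw [Solvable.map_subtype_conj_smul, Subgroup.map_subgroupOf_eq_of_le hA₁,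
    Subgroup.map_subgroupOf_eq_of_le hB₁] at h2
  refine ⟨m⁻¹ * (t : G) * n, ?_⟩
  rw [map_mul, map_mul, mul_smul, mul_smul, hnA, Subgroup.smul_sup, hUfix, ← h2, ← hmB, map_inv,
    inv_smul_smul]

/-- In a cyclic group, subgroups are determined by their order. -/
theorem mem_zpowers_of_orderOf_eq {C : Type*} [Group C] [Finite C] [IsCyclic C] {x y : C}
    (h : orderOf x = orderOf y) : x ∈ zpowers y := by
  classical
  haveI := Fintype.ofFinite C
  set n := orderOf y with hn
  have hpos : 0 < n := orderOf_pos y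
  have h1 := IsCyclic.card_pow_eq_one_le (α := C) hpos
  have himg : (Finset.range n).image (fun l => y ^ l) =
      (Finset.univ : Finset C).filter (fun a => a ^ n = 1) := by
    refine Finset.eq_of_subset_of_card_le (fun a ha => ?_) ?_
    · obtain ⟨l, -, rfl⟩ := Finset.mem_image.mp ha
      refine Finset.mem_filter.mpr ⟨Finset.mem_univ _, ?_⟩
      rw [← pow_mul, mul_comm, pow_mul, hn, pow_orderOf_eq_one, one_pow]
    · rw [Finset.card_image_of_injOn, Finset.card_range]
      · exact h1
      · intro a ha b hb hab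
        rw [Finset.coe_range, Set.mem_Iio, hn] at ha hb
        exact pow_injOn_Iio_orderOf ha hb hab
  have hx : x ∈ (Finset.univ : Finset C).filter (fun a => a ^ n = 1) :=
    Finset.mem_filter.mpr ⟨Finset.mem_univ _, by rw [← h, pow_orderOf_eq_one]⟩
  rw [← himg] at hx
  obtain ⟨l, -, hl⟩ := Finset.mem_image.mp hx
  exact ⟨l, by simpa using hl⟩

/-- With a cyclic Sylow subgroup, cyclic subgroups of a given prime power order are conjugate. -/
theorem conj_zpowers_of_cyclic_sylow {G : Type*} [Group G] [Finite G] {r : ℕ} [Fact r.Prime]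
    (P : Sylow r G) (hP : IsCyclic ↥(P : Subgroup G)) {x y : G} {n : ℕ} (hx : orderOf x = r ^ n)
    (hy : orderOf y = r ^ n) : ∃ g : G, g * x * g⁻¹ ∈ zpowers y := by
  have hinto : ∀ w : G, orderOf w = r ^ n → ∃ g : G, g * w * g⁻¹ ∈ (P : Subgroup G) := by
    intro w hw
    obtain ⟨S, hS⟩ := (IsPGroup.of_card (p := r) (n := n)
      (by rw [Nat.card_zpowers, hw]) : IsPGroup r ↥(zpowers w)).exists_le_sylow
    obtain ⟨g, rfl⟩ := MulAction.exists_smul_eq G S P
    exact ⟨g, Solvable.conj_mem_conj_smul (hS (mem_zpowers w))⟩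
  obtain ⟨a, ha⟩ := hinto x hx
  obtain ⟨b, hb⟩ := hinto y hy
  obtain ⟨k, hk⟩ := mem_zpowers_of_orderOf_eq (x := (⟨_, ha⟩ : ↥(P : Subgroup G))) (y := ⟨_, hb⟩)
    (by
      rw [Subgroup.orderOf_mk, Subgroup.orderOf_mk]
      have hcj : ∀ g w : G, orderOf (g * w * g⁻¹) = orderOf w := fun g w =>
        (MulAut.conj g).orderOf_eq w
      rw [hcj, hcj, hx, hy])
  refine ⟨b⁻¹ * a, k, ?_⟩
  have h' : (b * y * b⁻¹) ^ k = a * x * a⁻¹ := by simpa using congrArg Subtype.val hk
  rw [conj_zpow] at h'
  calc y ^ k = b⁻¹ * (b * y ^ k * b⁻¹) * b := by group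
    _ = b⁻¹ * a * x * (b⁻¹ * a)⁻¹ := by rw [h']; group

theorem CycQ.sameOrderConj_aux : ∀ (n : ℕ) (G : Type u) [Group G] [Finite G] [Group.IsSolvable G],
    Nat.card G = n → CycQ G → SameOrderConj G := by
  intro n
  induction n using Nat.strong_induction_on with
  | _ n ih =>
  intro G _ _ _ hn hG
  rcases subsingleton_or_nontrivial G with hs | hnt
  · intro A B _; exact ⟨1, Subsingleton.elim _ _⟩
  have huniq : ∀ (r : ℕ) [Fact r.Prime], (∀ P : Sylow r G, IsCyclic ↥(P : Subgroup G)) →
      ∀ x y : G, orderOf x = r → orderOf y = r → ∃ g : G, g * x * g⁻¹ ∈ zpowers y := fun r _ hc x y hx hy =>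
    conj_zpowers_of_cyclic_sylow (Classical.arbitrary (Sylow r G)) (hc _) (n := 1)
      (by rw [pow_one, hx]) (by rw [pow_one, hy])
  -- a normal subgroup of prime order, with cyclic Sylow subgroups for that prime
  have step : ∀ (r : ℕ) [Fact r.Prime], (∀ P : Sylow r G, IsCyclic ↥(P : Subgroup G)) →
      Cfsg.pCore r G ≠ ⊥ → SameOrderConj G := by
    intro r _ hc hne
    obtain ⟨M, hMn, hMne, hMle, hmin⟩ :=
      Solvable.exists_minimal_normal_le (Solvable.pCore_normal (G := G) r) hne
    haveI := hMn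
    obtain ⟨P⟩ : Nonempty (Sylow r G) := inferInstance
    haveI := hc P
    haveI : IsCyclic ↥M := isCyclic_of_le (hMle.trans (Solvable.pCore_le_sylow P))
    obtain ⟨s, hs, hexp⟩ := Solvable.exists_prime_pow_eq_one_of_minimal_normal hMne hmin
    obtain ⟨z, hz⟩ := IsCyclic.exists_generator (α := ↥M)
    have hz1 : z ≠ 1 := fun h => hMne ((Subgroup.eq_bot_iff_forall _).mpr fun w hw => by
      have := hz ⟨w, hw⟩
      rw [h, zpowers_one_eq_bot, mem_bot] at this
      exact congrArg Subtype.val this)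
    have hzs : orderOf z = s := haveI := Fact.mk hs; orderOf_eq_prime (Subtype.ext (by simpa using hexp _ z.2)) hz1
    have hsr : s = r := by
      obtain ⟨i, hi⟩ := IsPGroup.iff_orderOf.mp
        ((Solvable.isPGroup_pCore (G := G) r).to_le hMle) z
      rw [hzs] at hi
      exact (Nat.prime_dvd_prime_iff_eq hs Fact.out).mp (hs.dvd_of_dvd_pow (dvd_of_eq hi))
    subst hsr
    have hMc : Nat.card ↥M = s := by rw [← orderOf_eq_card_of_forall_mem_zpowers hz, hzs]
    have hall : ∀ x : G, orderOf x = s → x ∈ M := by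
      intro x hx
      obtain ⟨g, hg⟩ := huniq s hc x z hx (by rw [orderOf_coe, hzs])
      have := hMn.conj_mem _ (zpowers_le.mpr z.2 hg) g⁻¹
      simpa [mul_assoc] using this
    refine sameOrderConj_of_prime_normal M hMc hall (ih _ ?_ (G ⧸ M) rfl ?_)
    · rw [← hn, M.card_eq_card_quotient_mul_card_subgroup]
      exact lt_mul_of_one_lt_right Nat.card_pos (hMc ▸ hs.one_lt)
    have hsyl : ∀ (q : ℕ) [Fact q.Prime] (S : Sylow q G), q ≠ s →
        Nonempty (↥(S : Subgroup G) ≃* ↥((S : Subgroup G).map (QuotientGroup.mk' M))) := by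
      intro q _ S hqs
      have hd : Disjoint (S : Subgroup G) M := Solvable.disjoint_of_coprime (by
        obtain ⟨e, he⟩ := S.isPGroup'.exists_card_eq
        rw [hMc, he]
        exact ((Nat.coprime_primes Fact.out Fact.out).mpr (Ne.symm hqs)).pow_right e)
      refine ⟨MulEquiv.ofBijective ((QuotientGroup.mk' M).subgroupMap _)
        ⟨(injective_iff_map_eq_one _).mpr fun a ha => ?_, MonoidHom.subgroupMap_surjective _ _⟩⟩
      have h1 : (a : G) ∈ M := (QuotientGroup.eq_one_iff _).mp (congrArg Subtype.val ha)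
      exact Subtype.ext (Subgroup.mem_bot.mp (hd.le_bot ⟨a.2, h1⟩))
    refine ⟨fun q _ S' => ?_, ?_⟩
    · obtain ⟨S, hS⟩ := Sylow.mapSurjective_surjective (QuotientGroup.mk'_surjective M) q S'
      have hcoe : (S' : Subgroup (G ⧸ M)) = (S : Subgroup G).map (QuotientGroup.mk' M) := by
        rw [← hS]; rfl
      rw [hcoe]
      rcases eq_or_ne q s with rfl | hqs
      · haveI := hc S
        exact Or.inl (isCyclic_of_surjective ((QuotientGroup.mk' M).subgroupMap _)
          (MonoidHom.subgroupMap_surjective _ _))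
      obtain ⟨e⟩ := hsyl q S hqs
      rcases hG.sylow q S with h | ⟨h, ⟨f⟩⟩
      · exact Or.inl (e.isCyclic.mp h)
      · exact Or.inr ⟨h, ⟨e.symm.trans f⟩⟩
    · intro a b ha hb
      rcases eq_or_ne s 2 with rfl | hs2
      · obtain ⟨S'⟩ : Nonempty (Sylow 2 (G ⧸ M)) := inferInstance
        obtain ⟨S, hS⟩ := Sylow.mapSurjective_surjective (QuotientGroup.mk'_surjective M) 2 S'
        haveI := hc S
        refine conj_zpowers_of_cyclic_sylow S' ?_ (n := 2) (by rw [ha]; rfl) (by rw [hb]; rfl)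
        rw [show (S' : Subgroup (G ⧸ M)) = (S : Subgroup G).map (QuotientGroup.mk' M) by
          rw [← hS]; rfl]
        exact isCyclic_of_surjective ((QuotientGroup.mk' M).subgroupMap _)
          (MonoidHom.subgroupMap_surjective _ _)
      have hodd : ¬ 2 ∣ Nat.card ↥M := by
        rw [hMc]
        exact fun h => hs2 ((Nat.prime_dvd_prime_iff_eq Nat.prime_two hs).mp h).symm
      have hlift : ∀ a : G ⧸ M, orderOf a = 4 → ∃ u, QuotientGroup.mk' M u = a ∧ orderOf u = 4 := by
        intro a ha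
        obtain ⟨S, -, hSmap, hSinj⟩ := AbelianConj.exists_two_lift hodd (T := zpowers a)
          (IsPGroup.of_card (n := 2) (by rw [Nat.card_zpowers, ha]; rfl))
        obtain ⟨u, hu, rfl⟩ := hSmap a (mem_zpowers a)
        exact ⟨u, rfl, by rw [← AbelianConj.orderOf_eq_of_injOn hSinj hu, ha]⟩
      obtain ⟨u, rfl, hu⟩ := hlift a ha
      obtain ⟨v, rfl, hv⟩ := hlift b hb
      obtain ⟨g, k, hk⟩ := hG.four u v hu hv
      exact ⟨QuotientGroup.mk' M g, k, by
        simp only [← map_zpow, ← map_inv, ← map_mul]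
        exact congrArg _ hk⟩
  by_cases hoddcore : ∃ r : Nat.Primes, (r : ℕ) ≠ 2 ∧ Cfsg.pCore (r : ℕ) G ≠ ⊥
  · obtain ⟨r, hr2, hr⟩ := hoddcore
    haveI := Fact.mk r.2
    exact step r (fun P => (hG.sylow r P).resolve_right fun h => hr2 h.1) hr
  push Not at hoddcore
  haveI : Fact (Nat.Prime 2) := ⟨Nat.prime_two⟩
  have hF : Cfsg.fittingSubgroup G = Cfsg.pCore 2 G := by
    refine le_antisymm ?_ (Solvable.pCore_le_fittingSubgroup 2)
    rw [Solvable.fittingSubgroup_eq_iSup]
    refine iSup_le fun r => ?_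
    rcases eq_or_ne (r : ℕ) 2 with h | h
    · rw [h]
    · rw [hoddcore r h]; exact bot_le
  have hne : Cfsg.pCore 2 G ≠ ⊥ := hF ▸ Solvable.fittingSubgroup_ne_bot
  by_cases hcyc : ∀ P : Sylow 2 G, IsCyclic ↥(P : Subgroup G)
  · exact step 2 hcyc hne
  push Not at hcyc
  obtain ⟨P, hP⟩ := hcyc
  obtain ⟨-, ⟨e⟩⟩ := (hG.sylow 2 P).resolve_left hP
  haveI hcore := Solvable.pCore_normal (G := G) 2
  have hle := Solvable.pCore_le_sylow (p := 2) P
  have hP8 : Nat.card ↥(P : Subgroup G) = 8 := by
    rw [Nat.card_congr e.toEquiv, Nat.card_eq_fintype_card, QuaternionGroup.card]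
  have hcent : centralizer (Cfsg.pCore 2 G : Set G) ≤ Cfsg.pCore 2 G :=
    hF ▸ Solvable.centralizer_fittingSubgroup_le
  -- the 2-core is the Sylow subgroup
  have hPR : (P : Subgroup G) = Cfsg.pCore 2 G := by
    refine le_antisymm ?_ hle
    obtain ⟨x, hxR, hx4⟩ : ∃ x ∈ Cfsg.pCore 2 G, orderOf x = 4 := by
      by_contra hcon
      push Not at hcon
      have hsmall : ∀ x : ↥(P : Subgroup G), (x : G) ∈ Cfsg.pCore 2 G → x ^ 2 = 1 := by
        intro x hx
        by_contra h2
        refine hcon _ hx ?_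
        have h4 : ∀ b : QuaternionGroup 2, b ^ 4 = 1 := by decide
        rw [orderOf_coe]
        exact orderOf_eq_prime_pow (p := 2) (n := 1) (by simpa using h2)
          (e.injective (by rw [map_pow, map_one]; exact h4 _))
      have key : ∀ b c : QuaternionGroup 2, b ^ 2 = 1 → b * c = c * b := by decide
      have hPC : (P : Subgroup G) ≤ Cfsg.pCore 2 G := fun x hx => hcent (by
        rw [mem_centralizer_iff]
        intro a ha
        exact congrArg Subtype.val (e.injective (show e (⟨a, hle ha⟩ * ⟨x, hx⟩) =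
            e (⟨x, hx⟩ * ⟨a, hle ha⟩) by
          rw [map_mul, map_mul, key _ _ (by rw [← map_pow, hsmall ⟨a, hle ha⟩ ha, map_one])])))
      have h1 := hsmall (e.symm (QuaternionGroup.a 1)) (hPC (e.symm _).2)
      rw [← map_pow] at h1
      have h2 : (QuaternionGroup.a 1 : QuaternionGroup 2) ^ 2 = 1 :=
        e.symm.injective (by rw [h1, map_one])
      revert h2
      decide
    refine q8_generate e fun y _ hy => ?_
    obtain ⟨g, hg⟩ := hG.four y x hy hx4
    have := hcore.conj_mem _ (zpowers_le.mpr hxR hg) g⁻¹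
    simpa [mul_assoc] using this
  haveI hPn : (P : Subgroup G).Normal := hPR ▸ hcore
  rw [← hPR] at hcent
  obtain ⟨T, hT⟩ := Subgroup.exists_right_complement'_of_coprime P.card_coprime_index
  have hTcard : Nat.card ↥T * 8 = n := by rw [← hn, ← hT.card_mul_card, hP8, mul_comm]
  have hTodd : ¬ 2 ∣ Nat.card ↥T := by
    rw [← hT.symm.index_eq_card]; exact P.not_dvd_index
  have hTc : SameOrderConj ↥T := by
    refine ih _ (by have := Nat.card_pos (α := ↥T); omega) ↥T rfl ⟨fun r _ S => ?_, fun x _ hx _ =>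
      absurd ((show 2 ∣ orderOf x by rw [hx]; norm_num).trans (orderOf_dvd_natCard x)) hTodd⟩
    obtain ⟨k, hk⟩ := (S.isPGroup'.map T.subtype).exists_card_eq
    obtain ⟨S', hS'⟩ := (S.isPGroup'.map T.subtype).exists_le_sylow
    rcases hG.sylow r S' with h | ⟨rfl, -⟩
    · haveI := h
      haveI := isCyclic_of_le hS'
      exact Or.inl (((S : Subgroup ↥T).equivMapOfInjective T.subtype T.subtype_injective).isCyclic.mpr this)
    · left
      have : Nat.card ↥(S : Subgroup ↥T) = 1 := by
        obtain ⟨l, hl⟩ := S.isPGroup'.exists_card_eq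
        rcases l.eq_zero_or_pos with h0 | h0
        · rw [hl, h0, pow_zero]
        · exact absurd ((hl ▸ dvd_pow_self 2 h0.ne').trans
            (Subgroup.card_subgroup_dvd_card (S : Subgroup ↥T))) hTodd
      haveI := (Nat.card_eq_one_iff_unique.1 this).1
      infer_instance
  intro A B hAB
  have hinf : ∀ C : Subgroup G, Nat.card ↥(C ⊓ (P : Subgroup G)) = (Nat.card ↥C).gcd 8 := fun C => by
    rw [← hP8]; exact card_inf_hall _ P.card_coprime_index C
  have hcases : ∀ C : Subgroup G, Nat.card ↥(C ⊓ (P : Subgroup G)) = 4 →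
      C ≤ (P : Subgroup G) ∧ IsCyclic ↥C ∧ Nat.card ↥C = 4 := by
    intro C hC
    have hlt : C ⊓ (P : Subgroup G) < (P : Subgroup G) := lt_of_le_of_ne inf_le_right fun h => by
      rw [h, hP8] at hC; omega
    haveI hcy := isCyclic_of_proper_q8 e hlt
    set K := (C ⊓ (P : Subgroup G)).subgroupOf (P : Subgroup G) with hK
    have hKidx : K.index = 2 := by
      have h1 := K.card_mul_index
      rw [Nat.card_congr (Subgroup.subgroupOfEquivOfLe hlt.le).toEquiv, hC, hP8] at h1
      omega
    have hCP : C ≤ (P : Subgroup G) := by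
      by_contra hnle
      obtain ⟨c, hcC, hcP⟩ := SetLike.not_le_iff_exists.mp hnle
      obtain ⟨k, m, hm, hkm⟩ := Nat.exists_eq_pow_mul_and_not_dvd (orderOf_pos c).ne' 2 (by norm_num)
      set a := c ^ (2 ^ k) with ha
      have ham : orderOf a = m := by
        rw [ha, orderOf_pow_of_dvd (by positivity) (hkm ▸ dvd_mul_right _ _), hkm,
          Nat.mul_div_cancel_left _ (by positivity)]
      have hco : Nat.Coprime m 2 := (Nat.prime_two.coprime_iff_not_dvd.mpr hm).symm
      have haC : a ∈ C := pow_mem hcC _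
      have hacent : a ∈ centralizer ((P : Subgroup G) : Set G) := by
        rw [mem_centralizer_iff_conjNormal]
        refine eq_one_of_index_two hKidx ?_ (q := m)
          (by rw [← map_pow, ← ham, pow_orderOf_eq_one, map_one])
          (by rw [hP8]; exact hco.pow_right 3)
        intro d hd
        -- a coprime automorphism of a cyclic group of order four is trivial
        have hdm : (d : G) ∈ C ⊓ (P : Subgroup G) := hd
        obtain ⟨g, hg⟩ := hcy.exists_generator
        have hg4 : orderOf g = 4 := by rw [orderOf_eq_card_of_forall_mem_zpowers hg, hC]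
        have hconj : a * g * a⁻¹ ∈ C ⊓ (P : Subgroup G) :=
          Subgroup.mem_inf.mpr
          ⟨C.mul_mem (C.mul_mem haC g.2.1) (C.inv_mem haC), hPn.conj_mem _ g.2.2 a⟩
        obtain ⟨l, hl⟩ := Subgroup.mem_zpowers_iff.mp (hg ⟨_, hconj⟩)
        have hl' : (g : G) ^ l = a * g * a⁻¹ := by simpa using congrArg Subtype.val hl
        have hg4' : (g : G) ^ (4 : ℤ) = 1 := by
          rw [show (4 : ℤ) = ((4 : ℕ) : ℤ) from rfl, zpow_natCast, ← hg4, ← orderOf_coe,
            pow_orderOf_eq_one]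
        have hiter : ∀ n : ℕ, a ^ n * (g : G) * (a ^ n)⁻¹ = (g : G) ^ (l ^ n) := by
          intro n
          induction n with
          | zero => simp
          | succ n ih =>
            calc a ^ (n + 1) * (g : G) * (a ^ (n + 1))⁻¹ = a * (a ^ n * g * (a ^ n)⁻¹) * a⁻¹ := by
                  rw [pow_succ']; group
              _ = a * (g : G) ^ (l ^ n) * a⁻¹ := by rw [ih]
              _ = (a * g * a⁻¹) ^ (l ^ n) := by rw [conj_zpow]
              _ = (g : G) ^ (l ^ (n + 1)) := by rw [← hl', ← zpow_mul, pow_succ']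
        have hm4 : (4 : ℤ) ∣ l ^ m - 1 := by
          have h1 := hiter m
          rw [show a ^ m = 1 by rw [← ham, pow_orderOf_eq_one], one_mul, inv_one, mul_one] at h1
          have h2 : (g : G) ^ (l ^ m - 1) = 1 := by rw [zpow_sub_one, ← h1, mul_inv_cancel]
          rw [← orderOf_dvd_iff_zpow_eq_one, orderOf_coe, hg4] at h2
          exact_mod_cast h2
        have hl1 : (4 : ℤ) ∣ l - 1 := by
          have hl2 : ¬ (2 : ℤ) ∣ l := fun h => by
            have hm0 : m ≠ 0 := fun h0 => hm (h0 ▸ dvd_zero _)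
            have h1 : (2 : ℤ) ∣ l ^ m := dvd_pow h hm0
            omega
          obtain ⟨u, hu⟩ := hco.odd_of_right
          have h4 : (4 : ℤ) ∣ (l ^ 2) ^ u - 1 := by
            refine Dvd.dvd.trans ?_ (sub_one_dvd_pow_sub_one (l ^ 2) u)
            obtain ⟨w, rfl⟩ := Int.not_even_iff_odd.mp (fun h => hl2 (even_iff_two_dvd.mp h))
            exact ⟨w * w + w, by ring⟩
          rw [hu, pow_succ, pow_mul] at hm4
          obtain ⟨w1, hw1⟩ := h4
          obtain ⟨w2, hw2⟩ := hm4
          exact ⟨w2 - w1 * l, by linear_combination hw2 - l * hw1⟩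
        obtain ⟨w, hw⟩ := hl1
        have hag : a * g * a⁻¹ = g := by
          rw [← hl', show l = 4 * w + 1 by linarith, zpow_add, zpow_mul, hg4', one_zpow, one_mul,
            zpow_one]
        obtain ⟨i, hi⟩ := Subgroup.mem_zpowers_iff.mp (hg ⟨_, hdm⟩)
        have hi' : (g : G) ^ i = d := by simpa using congrArg Subtype.val hi
        refine Subtype.ext ?_
        rw [MulAut.conjNormal_apply, ← hi', ← conj_zpow, hag]
      have haP := hcent hacent
      have h1 : m ∣ 8 := by rw [← ham, ← hP8]; exact Subgroup.orderOf_dvd_natCard _ haP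
      have h2 : m = 1 := Nat.eq_one_of_dvd_coprimes (hco.pow_right 3) dvd_rfl h1
      have hc2 : IsPGroup 2 ↥(zpowers c) :=
        IsPGroup.of_card (n := k) (by rw [Nat.card_zpowers, hkm, h2, mul_one])
      obtain ⟨S, hS⟩ := hc2.exists_le_sylow
      haveI := Sylow.unique_of_normal P hPn
      rw [Subsingleton.elim S P] at hS
      exact hcP (hS (mem_zpowers c))
    rw [inf_eq_left.mpr hCP] at hC hcy
    exact ⟨hCP, hcy, hC⟩
  obtain ⟨d, hd⟩ : ∃ d, d = (Nat.card ↥A).gcd 8 := ⟨_, rfl⟩
  have hdA : Nat.card ↥(A ⊓ (P : Subgroup G)) = d := by rw [hinf, hd]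
  have hdB : Nat.card ↥(B ⊓ (P : Subgroup G)) = d := by rw [hinf, ← hAB, hd]
  by_cases hd4 : d = 4
  · subst hd4
    obtain ⟨-, hAc, hA4⟩ := hcases A hdA
    obtain ⟨-, hBc, hB4⟩ := hcases B hdB
    obtain ⟨x, hx⟩ := hAc.exists_generator
    obtain ⟨y, hy⟩ := hBc.exists_generator
    have hx4 : orderOf (x : G) = 4 := by
      rw [orderOf_coe, orderOf_eq_card_of_forall_mem_zpowers hx, hA4]
    have hy4 : orderOf (y : G) = 4 := by
      rw [orderOf_coe, orderOf_eq_card_of_forall_mem_zpowers hy, hB4]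
    obtain ⟨g, hg⟩ := hG.four x y hx4 hy4
    refine ⟨g, (Subgroup.eq_of_le_of_card_ge ?_ (by rw [Solvable.card_conj_smul, hA4, hB4])).symm⟩
    intro w hw
    rw [Solvable.mem_conj_smul] at hw
    obtain ⟨i, hi⟩ := Subgroup.mem_zpowers_iff.mp (hx ⟨_, hw⟩)
    have hi' : (x : G) ^ i = g⁻¹ * w * g := by simpa using congrArg Subtype.val hi
    have : w = (g * x * g⁻¹) ^ i := by rw [conj_zpow, hi']; group
    rw [this]
    exact zpow_mem (zpowers_le.mpr y.2 hg) i
  have hdcases : d = 1 ∨ d = 2 ∨ d = 8 := by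
    have h8 : d ∣ 2 ^ 3 := by rw [hd]; exact Nat.gcd_dvd_right _ _
    obtain ⟨i, hi, rfl⟩ := (Nat.dvd_prime_pow Nat.prime_two).mp h8
    interval_cases i <;> first | omega | norm_num | exact absurd rfl hd4
  have heq : ∀ C D : Subgroup G, C ≤ (P : Subgroup G) → D ≤ (P : Subgroup G) →
      Nat.card ↥C = d → Nat.card ↥D = d → C = D := by
    intro C D hC hD hcC hcD
    rcases hdcases with rfl | rfl | rfl
    · rw [Subgroup.card_eq_one.mp hcC, Subgroup.card_eq_one.mp hcD]
    · obtain ⟨x, hx⟩ := exists_prime_orderOf_dvd_card' (G := ↥C) 2 (by rw [hcC])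
      obtain ⟨y, hy⟩ := exists_prime_orderOf_dvd_card' (G := ↥D) 2 (by rw [hcD])
      rw [← orderOf_coe] at hx hy
      have key : ∀ b c : QuaternionGroup 2, b ^ 2 = 1 → b ≠ 1 → c ^ 2 = 1 → c ≠ 1 → b = c := by decide
      have hfact : ∀ (w : G) (hw : w ∈ (P : Subgroup G)), orderOf w = 2 →
          e ⟨w, hw⟩ ^ 2 = 1 ∧ e ⟨w, hw⟩ ≠ 1 := fun w hw h2 => by
        have h2' : orderOf (e ⟨w, hw⟩) = 2 := by rw [MulEquiv.orderOf_eq, Subgroup.orderOf_mk, h2]
        refine ⟨orderOf_dvd_iff_pow_eq_one.mp h2'.dvd, fun h => ?_⟩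
        rw [h, orderOf_one] at h2'
        omega
      have hxy : (x : G) = y := congrArg Subtype.val (e.injective
        (key _ _ (hfact x (hC x.2) hx).1 (hfact x (hC x.2) hx).2
          (hfact y (hD y.2) hy).1 (hfact y (hD y.2) hy).2))
      have e1 : zpowers (x : G) = C := Subgroup.eq_of_le_of_card_ge (zpowers_le.mpr x.2)
        (by rw [hcC, Nat.card_zpowers, hx])
      have e2 : zpowers (y : G) = D := Subgroup.eq_of_le_of_card_ge (zpowers_le.mpr y.2)
        (by rw [hcD, Nat.card_zpowers, hy])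
      rw [← e1, ← e2, hxy]
    · rw [Subgroup.eq_of_le_of_card_ge hC (by rw [hP8, hcC]),
        Subgroup.eq_of_le_of_card_ge hD (by rw [hP8, hcD])]
  haveI : (A ⊓ (P : Subgroup G)).Normal := ⟨fun w hw g => by
    have h1 : MulAut.conj g • (A ⊓ (P : Subgroup G)) = A ⊓ (P : Subgroup G) := heq _ _
      (fun v hv => by
        rw [Solvable.mem_conj_smul] at hv
        simpa [mul_assoc] using hPn.conj_mem _ hv.2 g)
      inf_le_right (by rw [Solvable.card_conj_smul, hdA]) hdA
    rw [← h1]
    exact Solvable.conj_mem_conj_smul hw⟩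
  exact conj_of_hall (R := (P : Subgroup G)) (U := A ⊓ (P : Subgroup G)) P.card_coprime_index hT hTc
    rfl (heq _ _ inf_le_right inf_le_right hdB hdA) hAB

theorem CycQ.sameOrderConj {G : Type u} [Group G] [Finite G] [Group.IsSolvable G] (h : CycQ G) :
    SameOrderConj G :=
  CycQ.sameOrderConj_aux _ G rfl h

end CfsgLib.BGroups
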