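import Cfsg.Agent.BGroups.Local
import Cfsg.Agent.Solvable.Fitting

/-!
A solvable group with conjugate abelian subgroups acting faithfully, coprimely and transitively
on the lines of an elementary abelian group: no rank two, and normal quaternion Sylow subgroup.
-/

set_option autoImplicit false
set_option linter.style.haveILetI false

namespace CfsgLib.BGroups

open Subgroup CfsgLib.AbelianConj

section Norm

variable {M : Type*} [AddCommGroup M]

theorem end_mul_apply (f g : AddMonoid.End M) (v : M) : (f * g) v = f (g v) := rfl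

theorem sum_pow_eq_zero {f : AddMonoid.End M} {r : ℕ} (hr : f ^ r = 1)
    (h : ∀ v, f v = v → v = 0) (v : M) : ∑ k ∈ Finset.range r, (f ^ k) v = 0 := by
  refine h _ ?_
  rw [map_sum]
  have h1 := Finset.sum_range_succ' (fun k => (f ^ k) v) r
  rw [Finset.sum_range_succ, hr, pow_zero] at h1
  have h2 : ∀ k, f ((f ^ k) v) = (f ^ (k + 1)) v := fun k => by rw [pow_succ', end_mul_apply]
  simp only [h2]
  exact (add_right_cancel h1).symm

/-- Two commuting fixed point free automorphisms of prime order generate a cyclic group. -/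
theorem nsmul_eq_zero_of_fpf {X Y : AddMonoid.End M} {r : ℕ} (hc : Commute X Y) (hX : X ^ r = 1)
    (hY : Y ^ r = 1) (h1 : ∀ k, 0 < k → k < r → ∀ v, (Y ^ k) v = v → v = 0)
    (h2 : ∀ a, a < r → ∀ v, (X * Y ^ a) v = v → v = 0) (v : M) : r • v = 0 := by
  rcases Nat.eq_zero_or_pos r with hr0 | hr0
  · rw [hr0, zero_nsmul]
  have hL : ∀ a ∈ Finset.range r, ∑ k ∈ Finset.range r, ((X * Y ^ a) ^ k) v = 0 := fun a ha =>
    sum_pow_eq_zero (by rw [(hc.pow_right a).mul_pow, hX, one_mul, ← pow_mul, mul_comm, pow_mul, hY,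
      one_pow]) (h2 a (Finset.mem_range.mp ha)) v
  have h3 : ∑ k ∈ Finset.range r, ∑ a ∈ Finset.range r, ((X * Y ^ a) ^ k) v = 0 := by
    rw [Finset.sum_comm]; exact Finset.sum_eq_zero hL
  rw [Finset.sum_eq_single 0] at h3
  · simpa using h3
  · intro k hk hk0
    have h4 : ∀ a, ((X * Y ^ a) ^ k) v = (X ^ k) (((Y ^ k) ^ a) v) := fun a => by
      rw [(hc.pow_right a).mul_pow, ← pow_mul Y a k, mul_comm a k, pow_mul, end_mul_apply]
    simp only [h4]
    rw [← map_sum, sum_pow_eq_zero (by rw [← pow_mul, mul_comm, pow_mul, hY, one_pow])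
      (h1 k (Nat.pos_of_ne_zero hk0) (Finset.mem_range.mp hk)), map_zero]
  · intro h; exact absurd (Finset.mem_range.mpr hr0) h

end Norm

/-- A faithful coprime action, transitive on lines, of a solvable group with conjugate abelian
subgroups. -/
structure LineAction (H : Type*) [Group H] (M : Type*) [AddCommGroup M] (p : ℕ)
    (ρ : H →* AddMonoid.End M) : Prop where
  solv : Group.IsSolvable H
  hyp : Hyp H
  inj : Function.Injective ρ
  prime : p.Prime
  exp : ∀ v : M, p • v = 0
  nontriv : ∃ v : M, v ≠ 0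
  cop : (Nat.card H).Coprime p
  trans : ∀ v w : M, v ≠ 0 → w ≠ 0 → ∃ (h : H) (k : ℕ), ρ h w = k • v

namespace LineAction

variable {H : Type*} [Group H] [Finite H] {M : Type*} [AddCommGroup M] {p : ℕ}
  {ρ : H →* AddMonoid.End M}

omit [Finite H] in
theorem rho_mul (a b : H) (v : M) : ρ (a * b) v = ρ a (ρ b v) := by rw [map_mul]; rfl

omit [Finite H] in
theorem rho_one (v : M) : ρ 1 v = v := by rw [map_one]; rfl

/-- Abelian normal subgroups act fixed point freely. -/
theorem fpf_of_abelian (L : LineAction H M p ρ) {A : Subgroup H} [hA : A.Normal]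
    (hab : ∀ a ∈ A, ∀ b ∈ A, Commute a b) {x : H} (hx : x ∈ A) {v : M} (hv : v ≠ 0)
    (hxv : ρ x v = v) : x = 1 := by
  classical
  let S : M → Set H := fun w => {a | a ∈ A ∧ ρ a w = w}
  have hle : ∀ u w : M, u ≠ 0 → w ≠ 0 → Nat.card (S u) ≤ Nat.card (S w) := by
    intro u w hu hw
    obtain ⟨h, k, hk⟩ := L.trans u w hu hw
    refine Nat.card_le_card_of_injective (fun a => ⟨h⁻¹ * a * h, by
      simpa using hA.conj_mem _ a.2.1 h⁻¹, ?_⟩) ?_
    · rw [rho_mul, hk, map_nsmul, rho_mul, a.2.2, ← map_nsmul, ← hk, ← rho_mul, inv_mul_cancel,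
        rho_one]
    · intro a b hab'
      exact Subtype.ext (mul_left_cancel (mul_right_cancel (congrArg Subtype.val hab')))
  have hinv : ∀ u : M, ∀ b ∈ A, ∀ a ∈ S u, a ∈ S (ρ b u) := fun u b hb a ha =>
    ⟨ha.1, by rw [← rho_mul, (hab a ha.1 b hb).eq, rho_mul, ha.2]⟩
  have hsub : ∀ u w : M, u ≠ 0 → w ≠ 0 → S u ⊆ S w → S w ⊆ S u := fun u w hu hw h =>
    (Set.eq_of_subset_of_ncard_le h (by simpa using hle w u hw hu) (Set.toFinite _)).ge
  by_contra hx1
  have hall : ∀ u : M, ∀ a ∈ S v, ρ a u = u := by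
    intro u
    by_contra hu
    push Not at hu
    obtain ⟨a, ha, hau⟩ := hu
    have hu0 : u ≠ 0 := fun h => hau (by rw [h, map_zero])
    have hbv : ∀ b ∈ S u, ρ b v = v := by
      intro b hb
      by_contra hne
      set w := u + v with hw
      have hw0 : w ≠ 0 := fun h => hau (by
        rw [eq_neg_of_add_eq_zero_left (hw.symm.trans h), map_neg, ha.2])
      set v' := ρ b v - v with hv'
      have hv'0 : v' ≠ 0 := sub_ne_zero.mpr hne
      have h1 : S v ⊆ S v' := fun c hc => ⟨hc.1, by
        rw [hv', map_sub, (hinv v b hb.1 c hc).2, hc.2]⟩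
      have h2 : S v' ⊆ S v := hsub _ _ hv hv'0 h1
      have h3 : S w ⊆ S v' := fun c hc => ⟨hc.1, by
        have hc' := (hinv w b hb.1 c hc).2
        have e : v' = ρ b w - w := by rw [hv', hw, map_add, hb.2]; abel
        rw [e, map_sub, hc', hc.2]⟩
      have h4 : S v ⊆ S w := hsub _ _ hw0 hv (h3.trans h2)
      refine hau ?_
      have := (h4 ha).2
      rwa [hw, map_add, ha.2, add_left_inj] at this
    exact hau ((hsub _ _ hu0 hv fun b hb => ⟨hb.1, hbv b hb⟩) ha).2
  exact hx1 (L.inj (by
    rw [map_one]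
    exact AddMonoidHom.ext fun u => hall u x ⟨hx, hxv⟩))

/-- A prime for which the core is nontrivial has a unique subgroup of that order. -/
theorem uniqueP_of_core (L : LineAction H M p ρ) {r : ℕ} [hr : Fact r.Prime]
    (h : Cfsg.pCore r H ≠ ⊥) : UniqueP H r := by
  haveI := L.solv
  obtain ⟨R₀, hn, hne, hle, hmin⟩ :=
    Solvable.exists_minimal_normal_le (Solvable.pCore_normal (G := H) r) h
  haveI := hn
  obtain ⟨s, hs, hexp⟩ := Solvable.exists_prime_pow_eq_one_of_minimal_normal hne hmin
  obtain ⟨z, hz⟩ : ∃ z, z ∈ R₀ ∧ z ≠ 1 := by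
    by_contra hcon
    push Not at hcon
    exact hne ((Subgroup.eq_bot_iff_forall _).mpr hcon)
  have hzs : orderOf (z : H) = s := haveI := Fact.mk hs; orderOf_eq_prime (hexp _ hz.1) hz.2
  have hsr : s = r := by
    obtain ⟨i, hi⟩ := IsPGroup.iff_orderOf.mp (Solvable.isPGroup_pCore (G := H) r) ⟨z, hle hz.1⟩
    rw [Subgroup.orderOf_mk, hzs] at hi
    exact (Nat.prime_dvd_prime_iff_eq hs hr.out).mp (hs.dvd_of_dvd_pow (dvd_of_eq hi))
  subst hsr
  have hab : ∀ a ∈ R₀, ∀ b ∈ R₀, Commute a b := Solvable.mul_comm_of_minimal_normal hne hmin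
  intro x y hx hy
  have hxR := mem_of_orderOf_eq L.hyp (hx.trans hzs.symm) hz.1
  have hyR := mem_of_orderOf_eq L.hyp (hy.trans hzs.symm) hz.1
  by_contra hxy
  obtain ⟨v, hv⟩ := L.nontriv
  have hfix : ∀ g ∈ R₀, g ≠ 1 → ∀ w, ρ g w = w → w = 0 := fun g hg hg1 w hw => by
    by_contra hw0
    exact hg1 (L.fpf_of_abelian hab hg hw0 hw)
  have h0 : s • v = 0 := by
    refine nsmul_eq_zero_of_fpf (X := ρ x) (Y := ρ y) ((hab x hxR y hyR).map ρ)
      (by rw [← map_pow, hexp x hxR, map_one]) (by rw [← map_pow, hexp y hyR, map_one]) ?_ ?_ v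
    · intro k hk hks w hw
      rw [← map_pow] at hw
      exact hfix _ (pow_mem hyR k) (pow_ne_one_of_lt_orderOf hk.ne' (by rwa [hy])) w hw
    · intro a _ w hw
      rw [← map_pow, ← map_mul] at hw
      refine hfix _ (mul_mem hxR (pow_mem hyR a)) (fun h1 => hxy ?_) w hw
      rw [eq_inv_of_mul_eq_one_left h1]
      exact inv_mem (pow_mem (mem_zpowers y) a)
  refine hv ?_
  have hd : s ∣ Nat.card H := hy ▸ orderOf_dvd_natCard y
  have hco : Nat.Coprime s p := L.cop.coprime_dvd_left hd
  rw [← AddMonoid.addOrderOf_eq_one_iff]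
  exact Nat.eq_one_of_dvd_coprimes hco (addOrderOf_dvd_of_nsmul_eq_zero h0)
    (addOrderOf_dvd_of_nsmul_eq_zero (L.exp v))

/-- There are no commuting independent elements of the same prime order. -/
theorem noRankTwo (L : LineAction H M p ρ) {q : ℕ} [hq : Fact q.Prime] : NoRankTwo H q := by
  intro x y hx hy hxy
  by_contra hne
  haveI := L.solv
  have hy0 : ∀ k, 0 < k → k < q → y ^ k ≠ 1 := fun k hk hkq =>
    pow_ne_one_of_lt_orderOf hk.ne' (by rwa [hy])
  have hcent : ∀ (R : Subgroup H), R.Normal → ∀ e : H, orderOf e = q →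
      e ∈ centralizer (R : Set H) → x ∈ centralizer (R : Set H) := fun R hR e he heC =>
    mem_of_orderOf_eq L.hyp (hx.trans he.symm) heC
  -- `x` centralizes every core
  have hcore : ∀ r : Nat.Primes, x ∈ centralizer (Cfsg.pCore (r : ℕ) H : Set H) := by
    intro r
    haveI := Fact.mk r.2
    by_cases hR : Cfsg.pCore (r : ℕ) H = ⊥
    · rw [hR, mem_centralizer_iff]
      intro a ha
      rw [show a = 1 from ha, one_mul, mul_one]
    have hu : TwoGroupsQ.HasUniqueOrderP ↥(Cfsg.pCore (r : ℕ) H) r :=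
      (L.uniqueP_of_core hR).noRankTwo.hasUniqueOrderP (Solvable.isPGroup_pCore r)
    have hRn : (Cfsg.pCore (r : ℕ) H).Normal := Solvable.pCore_normal _
    set R := Cfsg.pCore (r : ℕ) H with hRdef
    rcases cyclic_or_q8 L.hyp (Solvable.isPGroup_pCore r) hu with hc | ⟨hr2, ⟨e⟩⟩
    · obtain ⟨g, hg⟩ := exists_conj_mem L.hyp (hx.trans hy.symm)
      obtain ⟨k, hk⟩ := Subgroup.mem_zpowers_iff.mp hg
      have h1 : MulAut.conjNormal (H := R) x = MulAut.conjNormal (H := R) (y ^ k) := by
        rw [hk, conjNormal_conj hc]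
      have h2 : (y ^ k)⁻¹ * x ≠ 1 := fun h => hne ⟨k, inv_mul_eq_one.mp h⟩
      refine hcent R hRn _ (orderOf_eq_prime ?_ h2) (mem_centralizer_iff_conjNormal.mpr ?_)
      · rw [((hxy.zpow_right k).inv_right.symm).mul_pow, inv_pow, ← zpow_natCast, ← zpow_mul,
          mul_comm, zpow_mul, zpow_natCast, show y ^ q = 1 by rw [← hy, pow_orderOf_eq_one], one_zpow,
          inv_one, one_mul, ← hx, pow_orderOf_eq_one]
      · rw [map_mul, map_inv, ← h1, inv_mul_cancel]
    · have hq2 : q ≠ 2 := by
        rintro rfl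
        exact hne ((L.uniqueP_of_core (hr2 ▸ hR)) x y hx hy)
      set w' : ↥R := e.symm (QuaternionGroup.a 1) with hw'
      have hcard : Nat.card ↥R = 8 := by
        rw [Nat.card_congr e.toEquiv, Nat.card_eq_fintype_card, QuaternionGroup.card]
      -- some nontrivial element of the group generated by `x` and `y` commutes with `w'`
      let f : Fin q × Fin q → ↥R := fun ab => MulAut.conjNormal (x ^ (ab.1 : ℕ) * y ^ (ab.2 : ℕ)) w'
      have hninj : ¬ Function.Injective f := fun hf => by
        have h1 := Nat.card_le_card_of_injective f hf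
        rw [Nat.card_prod, Nat.card_fin, hcard] at h1
        have h2 : 3 ≤ q := by have := hq.out.two_le; omega
        have := Nat.mul_le_mul h2 h2
        omega
      obtain ⟨⟨a, b⟩, ⟨a', b'⟩, hf, hab⟩ : ∃ s t, f s = f t ∧ s ≠ t := by
        by_contra hcon
        push Not at hcon
        exact hninj fun s t h => hcon s t h
      set g₀ := (x ^ (a' : ℕ) * y ^ (b' : ℕ))⁻¹ * (x ^ (a : ℕ) * y ^ (b : ℕ)) with hg₀
      have hg1 : g₀ ≠ 1 := by
        intro h
        rw [hg₀, inv_mul_eq_one] at h
        have hmem : x ^ ((a' : ℤ) - a) ∈ zpowers y := ⟨(b : ℤ) - b', by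
          have h' : x ^ (a' : ℕ) = x ^ (a : ℕ) * (y ^ (b : ℕ) * (y ^ (b' : ℕ))⁻¹) := by
            rw [← mul_assoc, eq_mul_inv_iff_mul_eq, h]
          simp only [zpow_sub, zpow_natCast]
          rw [h', ((hxy.pow_pow _ _).mul_right ((hxy.pow_pow _ _).inv_right)).eq, mul_assoc,
            mul_inv_cancel, mul_one]⟩
        have haa : a = a' := by
          by_contra haa
          obtain ⟨u, v, huv⟩ : IsCoprime ((a' : ℤ) - a) (q : ℤ) := by
            rw [Int.isCoprime_iff_gcd_eq_one]
            have : ¬ q ∣ ((a' : ℤ) - a).natAbs := fun hd => by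
              have h1 := Nat.le_of_dvd (by
                have := Fin.val_ne_of_ne haa
                omega) hd
              have := a.2
              have := a'.2
              omega
            simpa [Int.gcd, Int.natAbs_natCast] using (Nat.Coprime.symm (hq.out.coprime_iff_not_dvd.mpr this))
          refine hne ?_
          have : x = (x ^ ((a' : ℤ) - a)) ^ u := by
            rw [← zpow_mul, show ((a' : ℤ) - a) * u = 1 - (q : ℤ) * v by linear_combination huv,
              zpow_sub, zpow_one, zpow_mul, zpow_natCast, show x ^ q = 1 by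
                rw [← hx, pow_orderOf_eq_one], one_zpow, inv_one, mul_one]
          rw [this]
          exact zpow_mem hmem u
        subst haa
        have hbb := pow_injOn_Iio_orderOf (x := y) (by simpa [hy] using b.2)
          (by simpa [hy] using b'.2) (mul_left_cancel h).symm
        exact hab (Prod.ext rfl (Fin.ext hbb))
      have hgq : g₀ ^ q = 1 := by
        have hxq : ∀ n : ℕ, (x ^ n) ^ q = 1 := fun n => by
          rw [← pow_mul, mul_comm, pow_mul, ← hx, pow_orderOf_eq_one, one_pow]
        have hyq : ∀ n : ℕ, (y ^ n) ^ q = 1 := fun n => by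
          rw [← pow_mul, mul_comm, pow_mul, ← hy, pow_orderOf_eq_one, one_pow]
        have hcx : ∀ n m i j : ℕ, Commute (x ^ n * y ^ m) (x ^ i * y ^ j) := fun n m i j =>
          ((((Commute.refl x).pow_pow n i).mul_right (hxy.pow_pow n j)).mul_left
            (((hxy.pow_pow i m).symm).mul_right ((Commute.refl y).pow_pow m j)))
        rw [hg₀, ((hcx _ _ _ _).inv_left).mul_pow, inv_pow, (hxy.pow_pow _ _).mul_pow,
          (hxy.pow_pow _ _).mul_pow, hxq, hxq, hyq, hyq, one_mul, inv_one, one_mul]
      have hfix : MulAut.conjNormal g₀ w' = w' := by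
        rw [hg₀, map_mul, MulAut.mul_apply, show MulAut.conjNormal (x ^ (a : ℕ) * y ^ (b : ℕ)) w' =
          MulAut.conjNormal (x ^ (a' : ℕ) * y ^ (b' : ℕ)) w' from hf, ← MulAut.mul_apply, ← map_mul,
          inv_mul_cancel, map_one, MulAut.one_apply]
      refine hcent R hRn g₀ (orderOf_eq_prime hgq hg1) (mem_centralizer_iff_conjNormal.mpr ?_)
      set φ := MulAut.conjNormal (H := R) g₀ with hφ
      have hidx : (zpowers w').index = 2 := by
        have h1 := (zpowers w').card_mul_index
        have h4 : orderOf w' = 4 := by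
          rw [hw', MulEquiv.orderOf_eq, QuaternionGroup.orderOf_a_one]
        rw [Nat.card_zpowers, h4, hcard] at h1
        omega
      have hzfix : ∀ c ∈ zpowers w', φ c = c := by
        rintro c ⟨i, rfl⟩
        simp only [map_zpow, hfix]
      ext u
      rw [MulAut.one_apply]
      congr 1
      by_cases hu : u ∈ zpowers w'
      · exact hzfix u hu
      have hu' : φ u ∉ zpowers w' := fun h => hu (φ.injective (hzfix _ h).symm.symm ▸ h)
      set c := u⁻¹ * φ u with hc
      have hcmem : c ∈ zpowers w' := by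
        rw [hc, Subgroup.mul_mem_iff_of_index_two hidx, inv_mem_iff]
        exact iff_of_false hu hu'
      have hiter : ∀ n : ℕ, (φ ^ n) u = u * c ^ n := by
        intro n
        induction n with
        | zero => simp
        | succ n ih =>
          rw [pow_succ', MulAut.mul_apply, ih, map_mul, map_pow, hzfix c hcmem,
            show φ u = u * c by rw [hc, mul_inv_cancel_left], pow_succ', mul_assoc]
      have hφq : φ ^ q = 1 := by rw [hφ, ← map_pow, hgq, map_one]
      have hcq : c ^ q = 1 := by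
        have := hiter q
        rwa [hφq, MulAut.one_apply, eq_comm, mul_eq_left] at this
      have hc1 : c = 1 := by
        rw [← orderOf_eq_one_iff]
        refine Nat.eq_one_of_dvd_coprimes ?_ (orderOf_dvd_of_pow_eq_one hcq) (hcard ▸ orderOf_dvd_natCard c)
        exact (hq.out.coprime_iff_not_dvd.mpr fun h => hq2
          ((Nat.prime_dvd_prime_iff_eq hq.out Nat.prime_two).mp (hq.out.dvd_of_dvd_pow (n := 3) h)))
      rw [show φ u = u * c by rw [hc, mul_inv_cancel_left], hc1, mul_one]
  have hxF : x ∈ Cfsg.fittingSubgroup H := by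
    refine Solvable.centralizer_fittingSubgroup_le ?_
    rw [Solvable.fittingSubgroup_eq_iSup, mem_centralizer_iff]
    intro a ha
    have : (⨆ r : Nat.Primes, Cfsg.pCore (r : ℕ) H) ≤ centralizer ({x} : Set H) := iSup_le
      fun r b hb => mem_centralizer_singleton_iff.mpr (mem_centralizer_iff.mp (hcore r) b hb)
    exact mem_centralizer_singleton_iff.mp (this ha)
  have hxq : x ∈ Cfsg.pCore q H := mem_core_of_mem_fitting hxF
    (IsPGroup.of_card (n := 1) (by rw [Nat.card_zpowers, hx, pow_one]))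
  refine hne ((L.uniqueP_of_core fun h => ?_) x y hx hy)
  rw [h, mem_bot] at hxq
  rw [hxq, orderOf_one] at hx
  exact hq.out.one_lt.ne hx

end LineAction

end CfsgLib.BGroups
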