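import Cfsg.Agent.AbelianConj.Main
import Cfsg.Agent.AbelianConj.Solvable
import Mathlib.GroupTheory.SpecificGroups.Quaternion

/-!
Local structure of solvable groups in which abelian subgroups of the same order are conjugate:
unique-subgroup criteria, small quaternion groups, and centralizers of cores.
-/

set_option autoImplicit false
set_option linter.style.haveILetI false

namespace CfsgLib.BGroups

open Subgroup CfsgLib.AbelianConj

variable {G : Type*} [Group G] [Finite G]

/-- At most one subgroup of order `p` in the whole group. -/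
def UniqueP (G : Type*) [Group G] (p : ℕ) : Prop :=
  ∀ x y : G, orderOf x = p → orderOf y = p → x ∈ zpowers y

/-- No two commuting independent elements of order `p`. -/
def NoRankTwo (G : Type*) [Group G] (p : ℕ) : Prop :=
  ∀ x y : G, orderOf x = p → orderOf y = p → Commute x y → x ∈ zpowers y

theorem UniqueP.noRankTwo {p : ℕ} (h : UniqueP G p) : NoRankTwo G p :=
  fun x y hx hy _ => h x y hx hy

/-- Without rank two, a `p`-subgroup has a unique subgroup of order `p`. -/
theorem NoRankTwo.hasUniqueOrderP {p : ℕ} [hp : Fact p.Prime] (h : NoRankTwo G p) {R : Subgroup G}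
    (hR : IsPGroup p ↥R) : TwoGroupsQ.HasUniqueOrderP ↥R p := by
  intro x y hx hy hy1
  haveI : Nontrivial ↥R := ⟨⟨y, 1, hy1⟩⟩
  haveI := hR.center_nontrivial
  obtain ⟨z, hz⟩ := exists_prime_orderOf_dvd_card' (G := ↥(center ↥R)) p (by
    obtain ⟨e, he⟩ := (hR.to_subgroup (center ↥R)).exists_card_eq
    rw [he]
    exact dvd_pow_self p fun h0 => by
      have h1 := Finite.one_lt_card (α := ↥(center ↥R))
      rw [he, h0] at h1
      exact lt_irrefl _ h1)
  rw [← orderOf_coe] at hz
  have key : ∀ w : ↥R, orderOf w = p → w ∈ zpowers (z : ↥R) := by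
    intro w hw
    have hc : Commute (w : G) ((z : ↥R) : G) := congrArg Subtype.val (mem_center_iff.mp z.2 w)
    obtain ⟨k, hk⟩ := h _ _ (by rw [orderOf_coe, hw]) (by rw [orderOf_coe, hz]) hc
    exact ⟨k, Subtype.ext (by simpa using hk)⟩
  rcases eq_or_ne x 1 with rfl | hx1
  · exact one_mem _
  have hx' := key x (orderOf_eq_prime hx hx1)
  have hy' := key y (orderOf_eq_prime hy hy1)
  have heq : zpowers y = zpowers (z : ↥R) := Subgroup.eq_of_le_of_card_ge (zpowers_le.mpr hy')
    (by rw [Nat.card_zpowers, Nat.card_zpowers, hz, orderOf_eq_prime hy hy1])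
  rwa [heq]

/-- A `p`-subgroup with a unique subgroup of order `p` is cyclic or quaternion of order eight. -/
theorem cyclic_or_q8 [Group.IsSolvable G] (hB : Hyp G) {p : ℕ} [hp : Fact p.Prime]
    {R : Subgroup G} (hR : IsPGroup p ↥R) (hu : TwoGroupsQ.HasUniqueOrderP ↥R p) :
    IsCyclic ↥R ∨ (p = 2 ∧ Nonempty (↥R ≃* QuaternionGroup 2)) := by
  rcases TwoGroupsQ.isCyclic_or_quaternion hR hu with h | ⟨rfl, m, hm, ⟨e⟩⟩
  · exact Or.inl h
  refine Or.inr ⟨rfl, ?_⟩
  haveI : NeZero (2 ^ m) := ⟨by positivity⟩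
  have hRc : Nat.card ↥R = 4 * 2 ^ m := by
    rw [Nat.card_congr e.toEquiv, Nat.card_eq_fintype_card, QuaternionGroup.card]
  obtain ⟨S, hS⟩ := hR.exists_le_sylow
  have h2dvd : 2 ∣ Nat.card ↥(⊤ : Subgroup G) := by
    rw [Subgroup.card_top]
    exact (Dvd.intro (2 * 2 ^ m) (by rw [hRc]; ring)).trans (Subgroup.card_subgroup_dvd_card R)
  set u : G := ((e.symm (QuaternionGroup.xa 0) : ↥R) : G) with hudef
  have hu4 : orderOf u = 2 ^ 2 := by
    rw [hudef, orderOf_coe, MulEquiv.orderOf_eq, QuaternionGroup.orderOf_xa]; rfl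
  have huS := AbelianConj.hasUniqueOrderP hB S.isPGroup' hu4
  rcases TwoGroupsQ.isCyclic_or_quaternion S.isPGroup' huS with hc | ⟨-, M, -, ⟨eS⟩⟩
  · haveI := isCyclic_of_le hS
    letI := IsCyclic.commGroup (α := ↥R)
    have h2 : e.symm (QuaternionGroup.a 1) * e.symm (QuaternionGroup.xa 0) =
        e.symm (QuaternionGroup.xa 0) * e.symm (QuaternionGroup.a 1) := mul_comm _ _
    rw [← map_mul, ← map_mul] at h2
    have h3 := e.symm.injective h2
    rw [QuaternionGroup.a_mul_xa, QuaternionGroup.xa_mul_a, QuaternionGroup.xa.injEq] at h3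
    have h4 : ((2 : ℕ) : ZMod (2 * 2 ^ m)) = 0 := by push_cast; linear_combination -h3
    rw [ZMod.natCast_eq_zero_iff] at h4
    have h7 := Nat.le_of_dvd two_pos h4
    have : (2 : ℕ) ^ 1 ≤ 2 ^ m := Nat.pow_le_pow_right (by norm_num) hm
    omega
  · haveI : NeZero (2 ^ M) := ⟨by positivity⟩
    have hM : M ≤ 1 := smallQuaternion_of_solvable hB ⊤ h2dvd S M ⟨eS⟩
    have h8 : Nat.card ↥R ≤ 8 := by
      refine (Subgroup.card_le_of_le hS).trans ?_
      rw [Nat.card_congr eS.toEquiv, Nat.card_eq_fintype_card, QuaternionGroup.card]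
      interval_cases M <;> norm_num
    have hm1 : m = 1 := by
      refine le_antisymm ?_ hm
      by_contra hlt
      have : (2 : ℕ) ^ 2 ≤ 2 ^ m := Nat.pow_le_pow_right (by norm_num) (by omega)
      omega
    subst hm1
    exact ⟨e⟩

/-- A proper subgroup of a quaternion group of order eight is cyclic. -/
theorem isCyclic_of_proper_q8 {Q R : Subgroup G} (e : ↥Q ≃* QuaternionGroup 2) (hRQ : R < Q) :
    IsCyclic ↥R := by
  have h8 : Nat.card ↥Q = 2 ^ 3 := by
    rw [Nat.card_congr e.toEquiv, Nat.card_eq_fintype_card, QuaternionGroup.card]; rfl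
  have hu : TwoGroupsQ.HasUniqueOrderP ↥Q 2 := by
    refine TwoGroupsQ.hasUniqueOrderP_two fun x y hx hx1 hy hy1 => e.injective ?_
    have key : ∀ a b : QuaternionGroup 2, a ^ 2 = 1 → a ≠ 1 → b ^ 2 = 1 → b ≠ 1 → a = b := by decide
    exact key _ _ (by rw [← map_pow, hx, map_one]) (fun h => hx1 (e.injective (by rw [h, map_one])))
      (by rw [← map_pow, hy, map_one]) (fun h => hy1 (e.injective (by rw [h, map_one])))
  haveI : Fact (Nat.Prime 2) := ⟨Nat.prime_two⟩
  have hRp : IsPGroup 2 ↥R := (IsPGroup.of_card h8).to_le hRQ.le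
  have huR : TwoGroupsQ.HasUniqueOrderP ↥R 2 := by
    intro x y hx hy hy1
    obtain ⟨i, hi⟩ := hu ⟨x, hRQ.le x.2⟩ ⟨y, hRQ.le y.2⟩
      (Subtype.ext (by simpa using congrArg Subtype.val hx))
      (Subtype.ext (by simpa using congrArg Subtype.val hy))
      (fun h => hy1 (Subtype.ext (by simpa using congrArg Subtype.val h)))
    exact ⟨i, Subtype.ext (by simpa using congrArg Subtype.val hi)⟩
  rcases TwoGroupsQ.isCyclic_or_quaternion hRp huR with h | ⟨-, m, hm, ⟨eR⟩⟩
  · exact h
  exfalso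
  haveI : NeZero (2 ^ m) := ⟨by positivity⟩
  have hc : Nat.card ↥R = 4 * 2 ^ m := by
    rw [Nat.card_congr eR.toEquiv, Nat.card_eq_fintype_card, QuaternionGroup.card]
  refine hRQ.ne (Subgroup.eq_of_le_of_card_ge hRQ.le ?_)
  have : (2 : ℕ) ^ 1 ≤ 2 ^ m := Nat.pow_le_pow_right (by norm_num) hm
  omega

/-- Conjugates act in the same way on a cyclic normal subgroup. -/
theorem conjNormal_conj {R : Subgroup G} [hR : R.Normal] (hc : IsCyclic ↥R) (g e : G) :
    MulAut.conjNormal (H := R) (g * e * g⁻¹) = MulAut.conjNormal e := by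
  obtain ⟨a, ha⟩ := MonoidHom.map_cyclic (MulAut.conjNormal (H := R) e).toMonoidHom
  ext v
  have key : ∀ w : ↥R, MulAut.conjNormal e w = w ^ a := ha
  rw [map_mul, map_mul, MulAut.mul_apply, MulAut.mul_apply, key, map_zpow, key]
  rw [← MulAut.mul_apply, ← map_mul, mul_inv_cancel, map_one, MulAut.one_apply]

theorem mem_centralizer_iff_conjNormal {R : Subgroup G} [R.Normal] {g : G} :
    g ∈ centralizer (R : Set G) ↔ MulAut.conjNormal (H := R) g = 1 := by
  rw [mem_centralizer_iff]
  constructor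
  · intro h
    ext v
    rw [MulAut.conjNormal_apply, MulAut.one_apply, ← h v v.2, mul_assoc, mul_inv_cancel, mul_one]
  · intro h v hv
    have h1 := congrArg Subtype.val (DFunLike.congr_fun h ⟨v, hv⟩)
    rw [MulAut.conjNormal_apply, MulAut.one_apply] at h1
    exact (mul_inv_eq_iff_eq_mul.mp h1).symm

/-- Elements of order four of a quaternion group of order eight generate it. -/
theorem q8_generate {Q : Subgroup G} (e : ↥Q ≃* QuaternionGroup 2) {H : Subgroup G}
    (h : ∀ x ∈ Q, orderOf x = 4 → x ∈ H) : Q ≤ H := by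
  intro x hx
  have key : ∀ a : QuaternionGroup 2, ∃ b c, a = b * c ∧
      (b ^ 2 ≠ 1 ∧ b ^ 4 = 1) ∧ c ^ 2 ≠ 1 ∧ c ^ 4 = 1 := by decide
  obtain ⟨b, c, hbc, hb, hc⟩ := key (e ⟨x, hx⟩)
  have hx' : x = (e.symm b : G) * (e.symm c : G) := by
    rw [← Subgroup.coe_mul, ← map_mul, ← hbc, MulEquiv.symm_apply_apply]
  haveI : Fact (Nat.Prime 2) := ⟨Nat.prime_two⟩
  have h4 : ∀ d : QuaternionGroup 2, d ^ 2 ≠ 1 → d ^ 4 = 1 → orderOf ((e.symm d : ↥Q) : G) = 4 :=
    fun d h1 h2 => by
      rw [orderOf_coe, MulEquiv.orderOf_eq]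
      exact orderOf_eq_prime_pow (p := 2) (n := 1) (by simpa using h1) (by simpa using h2)
  rw [hx']
  exact mul_mem (h _ (e.symm b).2 (h4 b hb.1 hb.2)) (h _ (e.symm c).2 (h4 c hc.1 hc.2))

/-- An `r`-element of the Fitting subgroup lies in the `r`-core. -/
theorem mem_core_of_mem_fitting {r : ℕ} [Fact r.Prime] {z : G}
    (hz : z ∈ Cfsg.fittingSubgroup G) (hr : IsPGroup r ↥(zpowers z)) : z ∈ Cfsg.pCore r G := by
  haveI : Group.IsNilpotent ↥(Cfsg.fittingSubgroup G) := Solvable.fittingSubgroup_isNilpotent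
  haveI : (Cfsg.fittingSubgroup G).Normal := Solvable.fittingSubgroup_normal
  have h : IsPGroup r ↥(zpowers (⟨z, hz⟩ : ↥(Cfsg.fittingSubgroup G))) :=
    (hr.comap_of_injective (Cfsg.fittingSubgroup G).subtype
      (Cfsg.fittingSubgroup G).subtype_injective).to_le (zpowers_le.2 (mem_zpowers z))
  obtain ⟨P, hP⟩ := h.exists_le_sylow
  have hPn : (P : Subgroup ↥(Cfsg.fittingSubgroup G)).Normal :=
    Sylow.normal_of_normalizerCondition Group.normalizerCondition_of_isNilpotent P
  haveI := Sylow.characteristic_of_normal P hPn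
  haveI : ((P : Subgroup ↥(Cfsg.fittingSubgroup G)).map (Cfsg.fittingSubgroup G).subtype).Normal :=
    inferInstance
  exact Solvable.le_pCore (P.2.map (Cfsg.fittingSubgroup G).subtype)
    ⟨⟨z, hz⟩, hP (mem_zpowers _), rfl⟩

/-- An automorphism of coprime order fixing a subgroup of index two pointwise is trivial. -/
theorem eq_one_of_index_two {R : Type*} [Group R] [Finite R] {φ : MulAut R} {H : Subgroup R}
    (hidx : H.index = 2) (hfix : ∀ c ∈ H, φ c = c) {q : ℕ} (hq : φ ^ q = 1)
    (hco : q.Coprime (Nat.card R)) : φ = 1 := by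
  ext u
  rw [MulAut.one_apply]
  by_cases hu : u ∈ H
  · exact hfix u hu
  have hu' : φ u ∉ H := fun h => hu (φ.injective (hfix _ h) ▸ h)
  set c := u⁻¹ * φ u with hc
  have hcmem : c ∈ H := by
    rw [hc, Subgroup.mul_mem_iff_of_index_two hidx, inv_mem_iff]
    exact iff_of_false hu hu'
  have hiter : ∀ n : ℕ, (φ ^ n) u = u * c ^ n := by
    intro n
    induction n with
    | zero => simp
    | succ n ih =>
      rw [pow_succ', MulAut.mul_apply, ih, map_mul, map_pow, hfix c hcmem,
        show φ u = u * c by rw [hc, mul_inv_cancel_left], pow_succ', mul_assoc]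
  have hcq : c ^ q = 1 := by
    have := hiter q
    rwa [hq, MulAut.one_apply, eq_comm, mul_eq_left] at this
  have hc1 : c = 1 := by
    rw [← orderOf_eq_one_iff]
    exact Nat.eq_one_of_dvd_coprimes hco (orderOf_dvd_of_pow_eq_one hcq) (orderOf_dvd_natCard c)
  rw [show φ u = u * c by rw [hc, mul_inv_cancel_left], hc1, mul_one]

/-- The order of the trace of a subgroup on a normal Hall subgroup. -/
theorem card_inf_hall (R : Subgroup G) [R.Normal] (hR : (Nat.card ↥R).Coprime R.index)
    (C : Subgroup G) : Nat.card ↥(C ⊓ R) = (Nat.card ↥C).gcd (Nat.card ↥R) := by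
  have h1 : Nat.card ↥(R.subgroupOf C) = Nat.card ↥(C ⊓ R) := by
    rw [← Subgroup.inf_subgroupOf_left,
      Nat.card_congr (Subgroup.subgroupOfEquivOfLe (inf_le_left : C ⊓ R ≤ C)).toEquiv]
  have h2 : (R.subgroupOf C).index ∣ R.index := Subgroup.relIndex_dvd_index_of_normal R C
  rw [← (R.subgroupOf C).card_mul_index, h1,
    Nat.Coprime.gcd_mul_right_cancel _ (hR.coprime_dvd_right h2).symm]
  exact (Nat.gcd_eq_left (Subgroup.card_dvd_of_le inf_le_right)).symm

end CfsgLib.BGroups
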