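import Cfsg.Agent.BGroups.Component
import Cfsg.Agent.BGroups.CycQ
import Cfsg.Agent.MaxCentralizer.Basic

/-!
In a finite solvable group whose abelian subgroups of the same order are conjugate, all subgroups
of the same order are conjugate.
-/

set_option autoImplicit false
set_option linter.style.haveILetI false

namespace CfsgLib.BGroups

open Subgroup CfsgLib.AbelianConj
open scoped Pointwise IsMulCommutative

universe u

section Reduced

variable {G : Type u} [Group G] [Finite G] [Group.IsSolvable G]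

/-- No normal subgroup has prime order. -/
def NoPrimeNormal (G : Type u) [Group G] : Prop :=
  ∀ N : Subgroup G, N.Normal → ¬ (Nat.card ↥N).Prime

theorem isComp_core (hB : Hyp G) (hno : NoPrimeNormal G) (p : ℕ) [hp : Fact p.Prime]
    (h : Cfsg.pCore p G ≠ ⊥) :
    IsComp p (Cfsg.pCore p G) ∧ ∀ x : G, orderOf x = p → x ∈ Cfsg.pCore p G := by
  have hcn := Solvable.pCore_normal (G := G) p
  obtain ⟨N, hn, hne, hle, hmin⟩ := Solvable.exists_minimal_normal_le hcn h
  haveI := hn
  have hcomm := Solvable.mul_comm_of_minimal_normal hne hmin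
  obtain ⟨s, hs, hexp⟩ := Solvable.exists_prime_pow_eq_one_of_minimal_normal hne hmin
  obtain ⟨z, hzN, hz1⟩ : ∃ z, z ∈ N ∧ z ≠ 1 := by
    by_contra hcon
    push Not at hcon
    exact hne ((Subgroup.eq_bot_iff_forall _).mpr hcon)
  have hzs : orderOf z = s := haveI := Fact.mk hs; orderOf_eq_prime (hexp _ hzN) hz1
  have hsp : s = p := by
    obtain ⟨i, hi⟩ := IsPGroup.iff_orderOf.mp (Solvable.isPGroup_pCore (G := G) p) ⟨z, hle hzN⟩
    rw [Subgroup.orderOf_mk, hzs] at hi
    exact (Nat.prime_dvd_prime_iff_eq hs hp.out).mp (hs.dvd_of_dvd_pow (dvd_of_eq hi))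
  subst hsp
  have hall : ∀ x : G, orderOf x = s → x ∈ N := fun x hx =>
    mem_of_orderOf_eq hB (hx.trans hzs.symm) hzN
  obtain ⟨P⟩ : Nonempty (Sylow s G) := inferInstance
  have hNP : N ≤ (P : Subgroup G) := hle.trans (Solvable.pCore_le_sylow P)
  have hPexp : ∀ x ∈ (P : Subgroup G), x ^ s = 1 := by
    intro x hx
    by_contra hxs
    obtain ⟨i, hi⟩ := IsPGroup.iff_orderOf.mp P.isPGroup' ⟨x, hx⟩
    rw [Subgroup.orderOf_mk] at hi
    have hi2 : 2 ≤ i := by
      by_contra hlt
      interval_cases i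
      · exact hxs (by rw [(orderOf_eq_one_iff (x := x)).mp (by rw [hi, pow_zero]), one_pow])
      · rw [pow_one] at hi; exact hxs (by rw [← hi, pow_orderOf_eq_one])
    have hu : orderOf (x ^ s ^ (i - 2)) = s ^ 2 := by
      rw [orderOf_pow_of_dvd (pow_ne_zero _ hs.ne_zero) (hi ▸ pow_dvd_pow s (Nat.sub_le i 2)), hi,
        Nat.pow_div (Nat.sub_le i 2) hs.pos, show i - (i - 2) = 2 by omega]
    have huq := AbelianConj.hasUniqueOrderP hB P.isPGroup' hu
    refine hno N hn ?_
    have hle' : N ≤ zpowers z := fun w hw => by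
      obtain ⟨k, hk⟩ := huq ⟨w, hNP hw⟩ ⟨z, hNP hzN⟩ (Subtype.ext (by simpa using hexp w hw))
        (Subtype.ext (by simpa using hexp z hzN)) (fun h1 => hz1 (congrArg Subtype.val h1))
      exact ⟨k, by simpa using congrArg Subtype.val hk⟩
    rw [le_antisymm hle' (zpowers_le.mpr hzN), Nat.card_zpowers, hzs]
    exact hs
  have hPN : (P : Subgroup G) ≤ N := fun x hx => by
    rcases eq_or_ne x 1 with rfl | hx1
    · exact one_mem _
    · exact hall x (orderOf_eq_prime (hPexp x hx) hx1)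
  have hcore : Cfsg.pCore s G = N :=
    le_antisymm ((Solvable.pCore_le_sylow P).trans hPN) hle
  have hPeq : (P : Subgroup G) = N := le_antisymm hPN hNP
  refine ⟨⟨hcn, ⟨⟨fun a b => Subtype.ext (hcomm a (hcore.le a.2) b (hcore.le b.2))⟩⟩,
    fun x hx => hexp x (hcore.le hx), h, ?_⟩, fun x hx => hle (hall x hx)⟩
  rw [hcore, ← hPeq]
  exact P.not_dvd_index

theorem mem_core_of_prime_pow {r : ℕ} [Fact r.Prime] {x : G} (hx : x ∈ Cfsg.fittingSubgroup G)
    (hr : ∃ i, orderOf x = r ^ i) : x ∈ Cfsg.pCore r G := by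
  obtain ⟨i, hi⟩ := hr
  exact mem_core_of_mem_fitting hx (IsPGroup.of_card (n := i) (by rw [Nat.card_zpowers, hi]))

theorem fitting_comm (hB : Hyp G) (hno : NoPrimeNormal G) :
    IsMulCommutative ↥(Cfsg.fittingSubgroup G) := by
  have key : ∀ r s : Nat.Primes,
      Cfsg.pCore (r : ℕ) G ≤ centralizer (Cfsg.pCore (s : ℕ) G : Set G) := by
    intro r s
    haveI := Fact.mk r.2
    haveI := Fact.mk s.2
    intro a ha
    rw [mem_centralizer_iff]
    intro b hb
    rcases eq_or_ne r s with rfl | hrs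
    · by_cases h : Cfsg.pCore (r : ℕ) G = ⊥
      · rw [h, mem_bot] at ha
        rw [ha, one_mul, mul_one]
      · exact congrArg Subtype.val
          ((isComp_core hB hno (r : ℕ) h).1.comm.is_comm.comm ⟨b, hb⟩ ⟨a, ha⟩)
    · exact (Subgroup.commute_of_normal_of_disjoint _ _ (Solvable.pCore_normal _)
        (Solvable.pCore_normal _) (IsPGroup.disjoint_of_ne _ _ (fun h => hrs (Subtype.ext h)) _ _
          (Solvable.isPGroup_pCore _) (Solvable.isPGroup_pCore _)) a b ha hb).eq.symm
  rw [← Subgroup.le_centralizer_iff_isMulCommutative, Solvable.fittingSubgroup_eq_iSup]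
  refine iSup_le fun r => ?_
  rw [Subgroup.le_centralizer_iff]
  exact iSup_le fun s => key s r

theorem fitting_hall (hB : Hyp G) (hno : NoPrimeNormal G) :
    (Nat.card ↥(Cfsg.fittingSubgroup G)).Coprime (Cfsg.fittingSubgroup G).index := by
  refine Nat.coprime_of_dvd fun r hr h1 h2 => ?_
  haveI := Fact.mk hr
  obtain ⟨x, hx⟩ := exists_prime_orderOf_dvd_card' (G := ↥(Cfsg.fittingSubgroup G)) r h1
  rw [← orderOf_coe] at hx
  have hxc := mem_core_of_prime_pow (r := r) x.2 ⟨1, by rw [pow_one, hx]⟩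
  have hne : Cfsg.pCore r G ≠ ⊥ := fun h => by
    rw [h, mem_bot] at hxc
    rw [hxc, orderOf_one] at hx
    exact hr.one_lt.ne hx
  exact (isComp_core hB hno r hne).1.hall
    (h2.trans (Subgroup.index_dvd_of_le (Solvable.pCore_le_fittingSubgroup r)))

/-- Outside the Fitting subgroup there is no rank two. -/
theorem noRankTwo_of_not_dvd (hB : Hyp G) (hno : NoPrimeNormal G) {q : ℕ} [hq : Fact q.Prime]
    (hqF : ¬ q ∣ Nat.card ↥(Cfsg.fittingSubgroup G)) : NoRankTwo G q := by
  intro x y hx hy hxy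
  by_contra hne
  have hcore : ∀ r : Nat.Primes, x ∈ centralizer (Cfsg.pCore (r : ℕ) G : Set G) := by
    intro r
    haveI := Fact.mk r.2
    by_cases hR : Cfsg.pCore (r : ℕ) G = ⊥
    · rw [hR, mem_centralizer_iff]
      intro a ha
      rw [show a = 1 from ha, one_mul, mul_one]
    obtain ⟨hc, -⟩ := isComp_core hB hno (r : ℕ) hR
    haveI := hc.normal
    haveI := hc.comm
    set K := centralizer (Cfsg.pCore (r : ℕ) G : Set G) with hK
    by_contra hxK
    have hall : ∀ e : G, orderOf e = q → e ∉ K := fun e he heK =>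
      hxK (mem_of_orderOf_eq hB (hx.trans he.symm) heK)
    have ho : ∀ e : G, orderOf e = q → orderOf (QuotientGroup.mk' K e) = q := fun e he =>
      orderOf_eq_prime (by rw [← map_pow, ← he, pow_orderOf_eq_one, map_one])
        fun h => hall e he ((QuotientGroup.eq_one_iff e).mp h)
    obtain ⟨k, hk⟩ := (hc.lineAction hB).noRankTwo (QuotientGroup.mk' K x) (QuotientGroup.mk' K y)
      (ho x hx) (ho y hy) (hxy.map _)
    have h1 : (y ^ k)⁻¹ * x ≠ 1 := fun h => hne ⟨k, inv_mul_eq_one.mp h⟩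
    refine hall _ (orderOf_eq_prime ?_ h1) ((QuotientGroup.eq_one_iff _).mp ?_)
    · rw [((hxy.zpow_right k).inv_right.symm).mul_pow, inv_pow, ← zpow_natCast, ← zpow_mul,
        mul_comm, zpow_mul, zpow_natCast, show y ^ q = 1 by rw [← hy, pow_orderOf_eq_one], one_zpow,
        inv_one, one_mul, ← hx, pow_orderOf_eq_one]
    · change QuotientGroup.mk' K ((y ^ k)⁻¹ * x) = 1
      rw [map_mul, map_inv, map_zpow]
      exact inv_mul_eq_one.mpr hk
  have hxF := LineAction.mem_fitting_of_centralizes_cores hcore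
  exact hqF (hx ▸ Subgroup.orderOf_dvd_natCard _ hxF)

/-- A component and a subgroup normalised by a quaternion Sylow subgroup. -/
theorem trace_cases (hB : Hyp G) {p : ℕ} [Fact p.Prime] {P : Subgroup G} [P.Normal]
    [IsMulCommutative ↥P] (hP : IsComp p P) (Q : Sylow 2 G)
    (e : ↥(Q : Subgroup G) ≃* QuaternionGroup 2) {U : Subgroup G}
    (hQU : (Q : Subgroup G) ≤ normalizer (U : Set G)) :
    (∀ x : G, orderOf x = 4 → x ∈ centralizer (P : Set G)) ∨ U ⊓ P = ⊥ ∨ U ⊓ P = P := by
  by_cases h4 : ∃ w : G, orderOf w = 4 ∧ w ∈ centralizer (P : Set G)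
  · obtain ⟨w, hw4, hw⟩ := h4
    exact Or.inl fun x hx => mem_of_orderOf_eq hB (hx.trans hw4.symm) hw
  push Not at h4
  haveI : Fact (Nat.Prime 2) := ⟨Nat.prime_two⟩
  set K := centralizer (P : Set G) with hK
  set π := QuotientGroup.mk' K with hπ
  have L := hP.lineAction hB
  have hord4 : ∀ b : ↥(Q : Subgroup G), e b ^ 2 ≠ 1 → orderOf (b : G) = 4 := by
    intro b h2
    have h4' : ∀ c : QuaternionGroup 2, c ^ 4 = 1 := by decide
    rw [orderOf_coe, ← MulEquiv.orderOf_eq e]
    exact orderOf_eq_prime_pow (p := 2) (n := 1) (by simpa using h2) (h4' _)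
  have hinj : ∀ b : ↥(Q : Subgroup G), (b : G) ∈ K → b = 1 := by
    intro b hb
    by_contra hb1
    have hb2 : e b ^ 2 = 1 := by
      by_contra h2
      exact h4 _ (hord4 b h2) hb
    have huniq : ∀ c : QuaternionGroup 2, c ^ 2 = 1 → c = 1 ∨ c = QuaternionGroup.a 1 * QuaternionGroup.a 1 := by
      decide
    rcases huniq _ hb2 with h | h
    · exact hb1 (e.map_eq_one_iff.mp h)
    -- the involution of `Q` centralises `P`: then the image of `Q` has rank two
    set i := e.symm (QuaternionGroup.a 1) with hi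
    set j := e.symm (QuaternionGroup.xa 0) with hj
    have hi4 : orderOf (i : G) = 4 := hord4 i (by rw [hi, MulEquiv.apply_symm_apply]; decide)
    have hj4 : orderOf (j : G) = 4 := hord4 j (by rw [hj, MulEquiv.apply_symm_apply]; decide)
    have hmem : ∀ c : ↥(Q : Subgroup G), e c = QuaternionGroup.a 1 * QuaternionGroup.a 1 → (c : G) ∈ K :=
      fun c hc => by rw [show c = b from e.injective (hc.trans h.symm)]; exact hb
    have hsq : ∀ c : ↥(Q : Subgroup G), e c ^ 2 = QuaternionGroup.a 1 * QuaternionGroup.a 1 →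
        (c : G) ∉ K → orderOf (π c) = 2 := fun c hc hcK => by
      refine orderOf_eq_prime ?_ fun h0 => hcK ((QuotientGroup.eq_one_iff _).mp h0)
      rw [← map_pow, ← SubgroupClass.coe_pow]
      exact (QuotientGroup.eq_one_iff _).mpr (hmem _ (by rw [map_pow, hc]))
    have hcomm : Commute (π i) (π j) := by
      have h1 : π (((j * i)⁻¹ * (i * j) : ↥(Q : Subgroup G)) : G) = 1 :=
        (QuotientGroup.eq_one_iff _).mpr (hmem _ (by
          simp only [map_mul, map_inv, hi, hj, MulEquiv.apply_symm_apply]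
          decide))
      rw [Subgroup.coe_mul, Subgroup.coe_inv, Subgroup.coe_mul, Subgroup.coe_mul, map_mul, map_inv,
        map_mul, map_mul, inv_mul_eq_one] at h1
      exact h1.symm
    obtain ⟨k, hk⟩ := L.noRankTwo (π i) (π j)
      (hsq i (by rw [hi, MulEquiv.apply_symm_apply]; decide) (h4 _ hi4))
      (hsq j (by rw [hj, MulEquiv.apply_symm_apply]; decide) (h4 _ hj4)) hcomm
    have hj2 : (π j) ^ (2 : ℤ) = 1 := by
      rw [show (2 : ℤ) = ((2 : ℕ) : ℤ) from rfl, zpow_natCast]
      exact orderOf_dvd_iff_pow_eq_one.mp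
        (hsq j (by rw [hj, MulEquiv.apply_symm_apply]; decide) (h4 _ hj4)).dvd
    rcases Int.even_or_odd k with ⟨m, rfl⟩ | ⟨m, rfl⟩
    · refine h4 _ hi4 ((QuotientGroup.eq_one_iff _).mp ?_)
      change π i = 1
      rw [← hk, show m + m = 2 * m by ring]
      simp only [zpow_mul, hj2, one_zpow]
    · refine h4 (((j⁻¹ * i : ↥(Q : Subgroup G))) : G) (hord4 _ ?_) ((QuotientGroup.eq_one_iff _).mp ?_)
      · simp only [map_mul, map_inv, hi, hj, MulEquiv.apply_symm_apply]
        decide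
      · change π _ = 1
        rw [Subgroup.coe_mul, Subgroup.coe_inv, map_mul, map_inv, ← hk]
        simp only [zpow_add_one, zpow_mul, hj2, one_zpow, one_mul, inv_mul_cancel]
  set Qb := Sylow.mapSurjective (QuotientGroup.mk'_surjective K) Q with hQb
  have hcoe : (Qb : Subgroup (G ⧸ K)) = (Q : Subgroup G).map π := rfl
  let eb : ↥(Qb : Subgroup (G ⧸ K)) ≃* QuaternionGroup 2 :=
    ((MulEquiv.ofBijective (π.subgroupMap (Q : Subgroup G)) ⟨(injective_iff_map_eq_one _).mpr
      fun a ha => hinj a ((QuotientGroup.eq_one_iff _).mp (congrArg Subtype.val ha)),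
      MonoidHom.subgroupMap_surjective _ _⟩).symm.trans e)
  let U' : AddSubgroup (Additive ↥P) := Subgroup.toAddSubgroup (U.subgroupOf P)
  rcases L.irreducible_of_q8 Qb eb (U := U') (by
    rintro _ ⟨g, hg, rfl⟩ v hv
    rw [quotEnd_mk]
    show ((conjEnd P g v).toMul : G) ∈ U
    rw [conjEnd_apply]
    exact (Subgroup.mem_normalizer_iff.mp (hQU hg) _).mp hv) with h | h
  · refine Or.inr (Or.inl ((Subgroup.eq_bot_iff_forall _).mpr fun w hw => ?_))
    have : Additive.ofMul (⟨w, hw.2⟩ : ↥P) ∈ U' := hw.1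
    rw [h, AddSubgroup.mem_bot] at this
    exact congrArg (fun v => ((Additive.toMul v : ↥P) : G)) this
  · refine Or.inr (Or.inr (le_antisymm inf_le_right fun w hw => ⟨?_, hw⟩))
    have : Additive.ofMul (⟨w, hw⟩ : ↥P) ∈ U' := h ▸ AddSubgroup.mem_top _
    exact this

/-- Fusion of cyclic subgroups of order four inside a normalizer. -/
theorem exists_fusion (hB : Hyp G) (hno : NoPrimeNormal G) (Q : Sylow 2 G)
    (e : ↥(Q : Subgroup G) ≃* QuaternionGroup 2) (h2 : ¬ 2 ∣ Nat.card ↥(Cfsg.fittingSubgroup G))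
    {U : Subgroup G} (hU : U ≤ Cfsg.fittingSubgroup G)
    (hQU : (Q : Subgroup G) ≤ normalizer (U : Set G)) {x y : G} (hx : orderOf x = 4)
    (hy : orderOf y = 4) :
    ∃ g ∈ normalizer (U : Set G), g * x * g⁻¹ ∈ zpowers y := by
  haveI : Fact (Nat.Prime 2) := ⟨Nat.prime_two⟩
  haveI hFn := Solvable.fittingSubgroup_normal (G := G)
  have hFc := fitting_comm hB hno
  set V := Cfsg.fittingSubgroup G with hV
  set U1 := U ⊓ centralizer ({x} : Set G) ⊓ centralizer ({y} : Set G) with hU1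
  have hU1V : U1 ≤ V := (inf_le_left.trans inf_le_left).trans hU
  have hU1c : ∀ a ∈ U1, ∀ b ∈ U1, Commute a b := fun a ha b hb =>
    congrArg Subtype.val (hFc.is_comm.comm ⟨a, hU1V ha⟩ ⟨b, hU1V hb⟩)
  have hco : (Nat.card ↥U1).Coprime 4 :=
    ((Nat.prime_two.coprime_iff_not_dvd.mpr fun h =>
      h2 (h.trans (Subgroup.card_dvd_of_le hU1V))).symm).pow_right 2
  have hsum : ∀ w : G, orderOf w = 4 → (∀ a ∈ U1, Commute a w) →
      IsMulCommutative ↥(U1 ⊔ zpowers w) ∧ Nat.card ↥(U1 ⊔ zpowers w) = Nat.card ↥U1 * 4 ∧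
      (U1 ⊔ zpowers w) ⊓ V = U1 ∧ ∀ v ∈ U1 ⊔ zpowers w, orderOf v = 4 → v ∈ zpowers w := by
    intro w hw hcw
    have hcomm : ∀ (m : ↥U1) (n : ↥(zpowers w)), Commute (U1.subtype m) ((zpowers w).subtype n) := by
      rintro ⟨m, hm⟩ ⟨_, k, rfl⟩
      exact (hcw m hm).zpow_right k
    set f := MonoidHom.noncommCoprod U1.subtype (zpowers w).subtype hcomm
    have hrange : f.range = U1 ⊔ zpowers w := by
      rw [MonoidHom.noncommCoprod_range, Subgroup.range_subtype, Subgroup.range_subtype]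
    have hinj : Function.Injective f := by
      rw [MonoidHom.noncommCoprod_injective]
      refine ⟨U1.subtype_injective, (zpowers w).subtype_injective, ?_⟩
      rw [Subgroup.range_subtype, Subgroup.range_subtype]
      exact Subgroup.disjoint_of_coprime_natCard (by rwa [Nat.card_zpowers, hw])
    have hcard : Nat.card ↥(U1 ⊔ zpowers w) = Nat.card ↥U1 * 4 := by
      rw [← hrange, ← Nat.card_congr (MonoidHom.ofInjective hinj).toEquiv, Nat.card_prod,
        Nat.card_zpowers, hw]
    refine ⟨?_, hcard, (Subgroup.eq_of_le_of_card_ge (le_inf le_sup_left hU1V) ?_).symm, ?_⟩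
    · refine ⟨⟨fun a b => Subtype.ext ?_⟩⟩
      obtain ⟨⟨a1, a2⟩, ha⟩ := hrange.ge a.2
      obtain ⟨⟨b1, b2⟩, hb⟩ := hrange.ge b.2
      show (a : G) * b = b * a
      rw [← ha, ← hb, ← map_mul, ← map_mul]
      congr 1
      refine Prod.ext (Subtype.ext (hU1c _ a1.2 _ b1.2).eq) ?_
      obtain ⟨k, hk⟩ := a2.2
      obtain ⟨l, hl⟩ := b2.2
      refine Subtype.ext ?_
      show (a2 : G) * b2 = b2 * a2
      rw [← hk, ← hl]
      exact ((Commute.refl w).zpow_zpow k l).eq
    · rw [card_inf_hall V (fitting_hall hB hno), hcard, Nat.Coprime.gcd_mul_right_cancel _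
        (((Nat.prime_two.coprime_iff_not_dvd.mpr h2)).pow_left 2)]
      exact Nat.le_of_dvd Nat.card_pos (Nat.gcd_dvd_left _ _)
    · intro v hv hv4
      obtain ⟨⟨a, b⟩, rfl⟩ := hrange.ge hv
      have hb4 : ∀ n : ↥(zpowers w), n ^ 4 = 1 := fun n => by
        rw [← hw, ← Nat.card_zpowers, pow_card_eq_one']
      have h1 : f ((a, b) ^ 4) = f 1 := by rw [map_pow, ← hv4, pow_orderOf_eq_one, map_one]
      have ha : a ^ 4 = 1 := congrArg Prod.fst (hinj h1)
      have ha1 : a = 1 := by
        rw [← orderOf_eq_one_iff]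
        exact Nat.eq_one_of_dvd_coprimes hco (orderOf_dvd_natCard a) (orderOf_dvd_of_pow_eq_one ha)
      have _ := hb4 b
      rw [MonoidHom.noncommCoprod_apply, ha1, map_one, one_mul]
      exact b.2
  obtain ⟨hxc, hxcard, hxV, -⟩ := hsum x hx fun a ha =>
    mem_centralizer_singleton_iff.mp (ha.1.2) |> fun h => (h : Commute a x)
  obtain ⟨hyc, hycard, hyV, hymem⟩ := hsum y hy fun a ha =>
    mem_centralizer_singleton_iff.mp (ha.2) |> fun h => (h : Commute a y)
  obtain ⟨g, hg⟩ := hB _ _ hxc hyc (hxcard.trans hycard.symm)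
  have hgmem : ∀ a, a ∈ U1 ⊔ zpowers x → g * a * g⁻¹ ∈ U1 ⊔ zpowers y := fun a ha => by
    rw [hg]; exact mem_map_of_mem _ ha
  have hU1g : ∀ a ∈ U1, g * a * g⁻¹ ∈ U1 := fun a ha =>
    hyV.le ⟨hgmem a (mem_sup_left ha), hFn.conj_mem _ (hU1V ha) g⟩
  refine ⟨g, ?_, hymem _ (hgmem x (mem_sup_right (mem_zpowers x))) ?_⟩
  swap
  · rw [← hx]; exact (MulAut.conj g).orderOf_eq x
  rw [Solvable.mem_normalizer_iff_conj_smul]
  refine Subgroup.eq_of_le_of_card_ge ?_ (by rw [Solvable.card_conj_smul])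
  have hsub : ∀ u ∈ U, g * u * g⁻¹ ∈ U := by
    intro u hu
    suffices u ∈ U.comap (MulAut.conj g).toMonoidHom from this
    refine MaxCentralizer.mem_of_primePow _ _ fun b hb r hr hbr => ?_
    have hbU : b ∈ U := zpowers_le.mpr hu hb
    show g * b * g⁻¹ ∈ U
    haveI := Fact.mk hr
    have hbc := mem_core_of_prime_pow (hU hbU) hbr
    by_cases hR : Cfsg.pCore r G = ⊥
    · rw [hR, mem_bot] at hbc
      rw [hbc, mul_one, mul_inv_cancel]
      exact one_mem U
    obtain ⟨hc, -⟩ := isComp_core hB hno r hR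
    haveI := hc.normal
    haveI := hc.comm
    rcases trace_cases hB hc Q e hQU with h | h | h
    · exact (hU1g b ⟨⟨hbU, mem_centralizer_singleton_iff.mpr (mem_centralizer_iff.mp (h x hx) b hbc)⟩,
        mem_centralizer_singleton_iff.mpr (mem_centralizer_iff.mp (h y hy) b hbc)⟩).1.1
    · have : b ∈ U ⊓ Cfsg.pCore r G := ⟨hbU, hbc⟩
      rw [h, mem_bot] at this
      rw [this, mul_one, mul_inv_cancel]
      exact one_mem U
    · exact (h.ge (hc.normal.conj_mem _ hbc g)).1
  intro w hw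
  rw [Solvable.mem_conj_smul] at hw
  simpa [mul_assoc] using hsub _ hw

/-- The conjugacy property when no normal subgroup has prime order. -/
theorem sameOrderConj_reduced (hB : Hyp G) (hno : NoPrimeNormal G) : SameOrderConj G := by
  haveI hFn := Solvable.fittingSubgroup_normal (G := G)
  have hFc := fitting_comm hB hno
  have hHall := fitting_hall hB hno
  set V := Cfsg.fittingSubgroup G with hV
  intro A B hAB
  have habel : ∀ C : Subgroup G, IsMulCommutative ↥(C ⊓ V) := fun C =>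
    ⟨⟨fun a b => Subtype.ext (congrArg Subtype.val (hFc.is_comm.comm ⟨a, a.2.2⟩ ⟨b, b.2.2⟩) :
      (a : G) * b = b * a)⟩⟩
  obtain ⟨g, hg⟩ := hB (A ⊓ V) (B ⊓ V) (habel A) (habel B)
    (by rw [card_inf_hall V hHall, card_inf_hall V hHall, hAB])
  set A' := MulAut.conj g • A with hA'
  have htr : B ⊓ V = A' ⊓ V := by
    have hVg : MulAut.conj g • V = V :=
      Solvable.mem_normalizer_iff_conj_smul.mp (by rw [Subgroup.normalizer_eq_top]; exact mem_top g)
    rw [hg, hA']
    conv_rhs => rw [← hVg]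
    rw [← Subgroup.smul_inf]
    rfl
  suffices ∃ n : G, B = MulAut.conj n • A' by
    obtain ⟨n, hn⟩ := this
    exact ⟨n * g, by rw [map_mul, mul_smul, ← hA', hn]⟩
  set U := A' ⊓ V with hUdef
  have hUV : U ≤ V := inf_le_right
  set S := normalizer (U : Set G) with hS
  have hVS : V ≤ S := fun v hv => by
    rw [hS, Solvable.mem_normalizer_iff_conj_smul]
    refine Subgroup.eq_of_le_of_card_ge ?_ (by rw [Solvable.card_conj_smul])
    intro w hw
    rw [Solvable.mem_conj_smul] at hw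
    have hwV : w ∈ V := by
      have := hFn.conj_mem _ (hUV hw) v
      simpa [mul_assoc] using this
    have hc : v * w = w * v := congrArg Subtype.val (hFc.is_comm.comm ⟨v, hv⟩ ⟨w, hwV⟩)
    rwa [mul_assoc, ← hc, inv_mul_cancel_left] at hw
  have hle : ∀ C : Subgroup G, C ⊓ V = U → C ≤ S := by
    intro C hC c hc
    rw [hS, Solvable.mem_normalizer_iff_conj_smul]
    have h1 : MulAut.conj c • V = V :=
      Solvable.mem_normalizer_iff_conj_smul.mp (by rw [Subgroup.normalizer_eq_top]; exact mem_top c)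
    rw [← hC, Subgroup.smul_inf, h1, Subgroup.conj_smul_eq_self_of_mem hc]
  have hAS := hle A' rfl
  have hBS := hle B htr
  haveI : (V.subgroupOf S).Normal := inferInstance
  have hUS : U ≤ S := Subgroup.le_normalizer
  haveI : (U.subgroupOf S).Normal := Subgroup.normal_subgroupOf_iff_le_normalizer hUS |>.mpr le_rfl
  have hVcard : Nat.card ↥(V.subgroupOf S) = Nat.card ↥V :=
    Nat.card_congr (Subgroup.subgroupOfEquivOfLe hVS).toEquiv
  have hcoS : (Nat.card ↥(V.subgroupOf S)).Coprime (V.subgroupOf S).index := by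
    rw [hVcard]
    exact hHall.coprime_dvd_right (Subgroup.relIndex_dvd_index_of_normal V S)
  obtain ⟨T, hT⟩ := Subgroup.exists_right_complement'_of_coprime hcoS
  set f : ↥T →* G := S.subtype.comp T.subtype with hf
  have hfinj : Function.Injective f := S.subtype_injective.comp T.subtype_injective
  have hTco : (Nat.card ↥T).Coprime (Nat.card ↥V) := by
    rw [← hT.symm.index_eq_card, ← hVcard]; exact hcoS.symm
  have hsyl : ∀ (r : ℕ) [Fact r.Prime] (P : Sylow r ↥T),
      IsCyclic ↥(P : Subgroup ↥T) ∨ (r = 2 ∧ Nonempty (↥(P : Subgroup ↥T) ≃* QuaternionGroup 2)) := by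
    intro r _ P
    set eP := (P : Subgroup ↥T).equivMapOfInjective f hfinj
    by_cases hrT : r ∣ Nat.card ↥T
    · have hrV : ¬ r ∣ Nat.card ↥V := fun h =>
        (Fact.out : r.Prime).one_lt.ne' (Nat.eq_one_of_dvd_coprimes hTco hrT h)
      rcases cyclic_or_q8 hB (P.isPGroup'.map f)
        ((noRankTwo_of_not_dvd hB hno hrV).hasUniqueOrderP (P.isPGroup'.map f)) with h | ⟨h, ⟨e⟩⟩
      · exact Or.inl (eP.isCyclic.mpr h)
      · exact Or.inr ⟨h, ⟨eP.trans e⟩⟩
    · left
      obtain ⟨l, hl⟩ := P.isPGroup'.exists_card_eq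
      rcases l.eq_zero_or_pos with h0 | h0
      · haveI := (Nat.card_eq_one_iff_unique.1 (hl.trans (by rw [h0, pow_zero]))).1
        infer_instance
      · exact absurd ((hl ▸ dvd_pow_self r h0.ne').trans
          (Subgroup.card_subgroup_dvd_card (P : Subgroup ↥T))) hrT
  have hfour : ∀ x y : ↥T, orderOf x = 4 → orderOf y = 4 → ∃ t : ↥T, t * x * t⁻¹ ∈ zpowers y := by
    intro x y hx hy
    haveI : Fact (Nat.Prime 2) := ⟨Nat.prime_two⟩
    obtain ⟨P⟩ : Nonempty (Sylow 2 ↥T) := inferInstance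
    rcases hsyl 2 P with h | ⟨-, ⟨e⟩⟩
    · exact conj_zpowers_of_cyclic_sylow P h (n := 2) (by rw [hx]; rfl) (by rw [hy]; rfl)
    have h2V : ¬ 2 ∣ Nat.card ↥V := fun h => by
      have h2T : 2 ∣ Nat.card ↥T :=
        (show 2 ∣ orderOf x by rw [hx]; norm_num).trans (orderOf_dvd_natCard x)
      exact absurd (Nat.eq_one_of_dvd_coprimes hTco h2T h) (by norm_num)
    set eP := (P : Subgroup ↥T).equivMapOfInjective f hfinj
    obtain ⟨Q, hQ⟩ := (P.isPGroup'.map f).exists_le_sylow
    have hQeq : (P : Subgroup ↥T).map f = (Q : Subgroup G) := by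
      have hP8 : Nat.card ↥((P : Subgroup ↥T).map f) = 8 := by
        rw [Nat.card_congr (eP.symm.trans e).toEquiv, Nat.card_eq_fintype_card, QuaternionGroup.card]
      rcases cyclic_or_q8 hB Q.isPGroup'
        ((noRankTwo_of_not_dvd hB hno h2V).hasUniqueOrderP Q.isPGroup') with h | ⟨-, ⟨eQ⟩⟩
      · exfalso
        haveI := h
        haveI := isCyclic_of_le hQ
        haveI := (eP.symm.trans e).isCyclic.mp this
        letI := IsCyclic.commGroup (α := QuaternionGroup 2)
        have h2 : (QuaternionGroup.a 1 * QuaternionGroup.xa 0 : QuaternionGroup 2) =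
            QuaternionGroup.xa 0 * QuaternionGroup.a 1 := mul_comm _ _
        rw [QuaternionGroup.a_mul_xa, QuaternionGroup.xa_mul_a, QuaternionGroup.xa.injEq] at h2
        revert h2
        decide
      · exact Subgroup.eq_of_le_of_card_ge hQ (by
          rw [hP8, Nat.card_congr eQ.toEquiv, Nat.card_eq_fintype_card, QuaternionGroup.card])
    have hQS : (Q : Subgroup G) ≤ normalizer (U : Set G) := by
      rw [← hQeq]
      rintro _ ⟨w, -, rfl⟩
      exact (T.subtype w).2
    obtain ⟨c, hcS, hc⟩ := exists_fusion hB hno Q ((MulEquiv.subgroupCongr hQeq).symm.trans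
      (eP.symm.trans e)) h2V hUV hQS (x := f x) (y := f y)
      (by rw [orderOf_injective f hfinj, hx]) (by rw [orderOf_injective f hfinj, hy])
    obtain ⟨k, hk⟩ := Subgroup.mem_zpowers_iff.mp hc
    obtain ⟨⟨v, t⟩, hvt, -⟩ := Subgroup.isComplement_iff_existsUnique.mp hT ⟨c, hcS⟩
    refine ⟨t, k, ?_⟩
    have hS' : ((y : ↥S)) ^ k = ((v : ↥S) * t) * (x : ↥S) * ((v : ↥S) * t)⁻¹ := by
      rw [show (v : ↥S) * t = ⟨c, hcS⟩ from hvt]
      apply Subtype.ext
      simpa [hf] using hk
    set π := QuotientGroup.mk' (V.subgroupOf S)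
    have h1 := congrArg π hS'
    rw [map_mul, map_mul, map_inv, map_mul, show π (v : ↥S) = 1 from (QuotientGroup.eq_one_iff _).mpr v.2,
      one_mul, ← map_inv, ← map_mul, ← map_mul] at h1
    have h2 : ((y : ↥S) ^ k)⁻¹ * ((t : ↥S) * x * (t : ↥S)⁻¹) ∈ V.subgroupOf S ⊓ T := Subgroup.mem_inf.mpr
      ⟨(QuotientGroup.eq_one_iff _).mp (by
        change π _ = 1
        rw [map_mul, map_inv, ← h1, inv_mul_cancel]),
       T.mul_mem (T.inv_mem (zpow_mem y.2 k)) (T.mul_mem (T.mul_mem t.2 x.2) (T.inv_mem t.2))⟩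
    rw [hT.disjoint.eq_bot, mem_bot, inv_mul_eq_one] at h2
    exact Subtype.ext (by simpa using h2)
  have hTc : SameOrderConj ↥T := CycQ.sameOrderConj ⟨hsyl, hfour⟩
  have htrace : ∀ C : Subgroup G, C ⊓ V = U → C.subgroupOf S ⊓ V.subgroupOf S = U.subgroupOf S :=
    fun C hC => by rw [← hC]; rfl
  obtain ⟨n, hn⟩ := conj_of_hall hcoS hT hTc (htrace A' rfl) (htrace B htr) (by
    rw [Nat.card_congr (Subgroup.subgroupOfEquivOfLe hAS).toEquiv,
      Nat.card_congr (Subgroup.subgroupOfEquivOfLe hBS).toEquiv, hA', Solvable.card_conj_smul, hAB])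
  have h2 := congrArg (Subgroup.map S.subtype) hn
  rw [Solvable.map_subtype_conj_smul, Subgroup.map_subgroupOf_eq_of_le hAS,
    Subgroup.map_subgroupOf_eq_of_le hBS] at h2
  exact ⟨n, h2⟩

end Reduced

theorem sameOrderConj_aux : ∀ (n : ℕ) (G : Type u) [Group G] [Finite G] [Group.IsSolvable G],
    Nat.card G = n → Hyp G → SameOrderConj G := by
  intro n
  induction n using Nat.strong_induction_on with
  | _ n ih =>
  intro G _ _ _ hn hB
  by_cases hno : NoPrimeNormal G
  · exact sameOrderConj_reduced hB hno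
  rw [NoPrimeNormal] at hno
  push Not at hno
  obtain ⟨N, hNn, hNp⟩ := hno
  haveI := hNn
  haveI := Fact.mk hNp
  refine sameOrderConj_of_prime_normal N rfl (fun x hx => ?_)
    (ih _ ?_ (G ⧸ N) rfl (AbelianConj.hyp_quotient hB (smallQuaternion_of_solvable hB N)))
  · obtain ⟨z, hz⟩ := exists_prime_orderOf_dvd_card' (G := ↥N) (Nat.card ↥N) dvd_rfl
    exact mem_of_orderOf_eq hB (hx.trans (by rw [orderOf_coe, hz]) : orderOf x = orderOf (z : G)) z.2
  · rw [← hn, N.card_eq_card_quotient_mul_card_subgroup]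
    exact lt_mul_of_one_lt_right Nat.card_pos hNp.one_lt

/-- Solvable groups with conjugate abelian subgroups of the same order have conjugate subgroups
of the same order. -/
theorem sameOrderConj_of_hyp {G : Type u} [Group G] [Finite G] [Group.IsSolvable G] (hB : Hyp G) :
    SameOrderConj G :=
  sameOrderConj_aux _ G rfl hB

end CfsgLib.BGroups
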