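import Cfsg.Agent.BGroups.Faithful
import Mathlib.FieldTheory.Finite.Basic

/-!
Quaternion subgroups in faithful line-transitive coprime actions: normality, and irreducibility
of the module.
-/

set_option autoImplicit false
set_option linter.style.haveILetI false

namespace CfsgLib.BGroups

open Subgroup CfsgLib.AbelianConj

section Module

variable {M : Type*} [AddCommGroup M] [Finite M] {p : ℕ} [hp : Fact p.Prime]

/-- A quaternion pair of endomorphisms of a vector space over the field with `p` elements. -/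
structure QPair (I J : AddMonoid.End M) (p : ℕ) : Prop where
  exp : ∀ v : M, p • v = 0
  odd : p ≠ 2
  sqI : ∀ v, I (I v) = -v
  sqJ : ∀ v, J (J v) = -v
  anti : ∀ v, J (I v) = -I (J v)

/-- A subgroup invariant under both endomorphisms. -/
def QInv (I J : AddMonoid.End M) (W : AddSubgroup M) : Prop :=
  ∀ v ∈ W, I v ∈ W ∧ J v ∈ W

namespace QPair

variable {I J : AddMonoid.End M}

omit [Finite M] hp in
theorem zsmul_zero (h : QPair I J p) (v : M) {a : ℤ} (ha : (p : ℤ) ∣ a) : a • v = 0 := by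
  obtain ⟨c, rfl⟩ := ha
  rw [mul_comm, mul_zsmul, natCast_zsmul, h.exp, _root_.zsmul_zero]

omit [Finite M] in
theorem dvd_of_zsmul (h : QPair I J p) {v : M} (hv : v ≠ 0) {a : ℤ} (ha : a • v = 0) :
    (p : ℤ) ∣ a := by
  have h1 : addOrderOf v = p := addOrderOf_eq_prime (h.exp v) hv
  rwa [← h1, addOrderOf_dvd_iff_zsmul_eq_zero]

omit [Finite M] in
theorem eq_zero_of_double (h : QPair I J p) {v : M} (hv : v = -v) : v = 0 := by
  by_contra hne
  have h2 : (2 : ℤ) • v = 0 := by rw [two_zsmul]; nth_rewrite 2 [hv]; exact add_neg_cancel v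
  have := h.dvd_of_zsmul hne h2
  have h3 := Int.le_of_dvd two_pos this
  have := hp.out.two_le
  exact h.odd (by omega)

omit [Finite M] in
/-- Every nontrivial invariant subgroup has a vector independent of its image under `I`. -/
theorem exists_free (h : QPair I J p) {W : AddSubgroup M} (hW : QInv I J W) {v : M} (hvW : v ∈ W)
    (hv : v ≠ 0) : ∃ u ∈ W, ∀ a b : ℤ, a • u + b • I u = 0 → (p : ℤ) ∣ a ∧ (p : ℤ) ∣ b := by
  have key : ∀ u : M, u ≠ 0 → (∀ c : ℤ, I u ≠ c • u) →
      ∀ a b : ℤ, a • u + b • I u = 0 → (p : ℤ) ∣ a ∧ (p : ℤ) ∣ b := by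
    intro u hu hIu a b hab
    have hb : (p : ℤ) ∣ b := by
      by_contra hb
      obtain ⟨s, t, hst⟩ : IsCoprime (p : ℤ) b :=
        ((Nat.prime_iff_prime_int.mp hp.out).coprime_iff_not_dvd).mpr hb
      refine hIu (-(t * a)) ?_
      have h1 : b • I u = -(a • u) := eq_neg_of_add_eq_zero_right hab
      calc I u = (1 : ℤ) • I u := (one_zsmul _).symm
        _ = t • (b • I u) := by
          rw [← hst, add_zsmul, h.zsmul_zero (I u) (dvd_mul_left _ _), zero_add, mul_zsmul]
        _ = (-(t * a)) • u := by rw [h1]; module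
    rw [h.zsmul_zero (I u) hb, add_zero] at hab
    exact ⟨h.dvd_of_zsmul hu hab, hb⟩
  by_cases hIv : ∀ c : ℤ, I v ≠ c • v
  · exact ⟨v, hvW, key v hv hIv⟩
  push Not at hIv
  obtain ⟨c, hc⟩ := hIv
  have hJv : ∀ d : ℤ, J v ≠ d • v := by
    intro d hd
    have h1 := h.anti v
    rw [hc, map_zsmul, hd, map_zsmul, hc, smul_comm] at h1
    have h2 : (c * d) • v = 0 := by
      rw [mul_zsmul, smul_comm]
      exact h.eq_zero_of_double h1
    rcases (Nat.prime_iff_prime_int.mp hp.out).dvd_or_dvd (h.dvd_of_zsmul hv h2) with h3 | h3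
    · rw [h.zsmul_zero v h3] at hc
      have := h.sqI v
      rw [hc, map_zero] at this
      exact hv (neg_eq_zero.mp this.symm)
    · rw [h.zsmul_zero v h3] at hd
      have := h.sqJ v
      rw [hd, map_zero] at this
      exact hv (neg_eq_zero.mp this.symm)
  refine ⟨v + J v, add_mem hvW (hW v hvW).2, key _ (fun h0 => hJv (-1) ?_) fun d hd => ?_⟩
  · rw [neg_one_zsmul]; exact eq_neg_of_add_eq_zero_right h0
  rw [map_add, hc, show I (J v) = -J (I v) by rw [h.anti, neg_neg], hc, map_zsmul] at hd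
  have h1 : (c - d) • v = (c + d) • J v := by linear_combination (norm := module) hd
  by_cases hcd : (p : ℤ) ∣ c + d
  · rw [h.zsmul_zero _ hcd] at h1
    have h2 := h.dvd_of_zsmul hv h1
    have h3 : (p : ℤ) ∣ 2 * c := by
      have := Int.dvd_add hcd h2
      rwa [show c + d + (c - d) = 2 * c by ring] at this
    rcases (Nat.prime_iff_prime_int.mp hp.out).dvd_or_dvd h3 with h4 | h4
    · have := Int.le_of_dvd two_pos h4
      have := hp.out.two_le
      exact h.odd (by omega)
    · rw [h.zsmul_zero v h4] at hc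
      have := h.sqI v
      rw [hc, map_zero] at this
      exact hv (neg_eq_zero.mp this.symm)
  · obtain ⟨s, t, hst⟩ : IsCoprime (p : ℤ) (c + d) :=
      ((Nat.prime_iff_prime_int.mp hp.out).coprime_iff_not_dvd).mpr hcd
    refine hJv (t * (c - d)) ?_
    calc J v = (1 : ℤ) • J v := (one_zsmul _).symm
      _ = t • ((c + d) • J v) := by
        rw [← hst, add_zsmul, h.zsmul_zero (J v) (dvd_mul_left _ _), zero_add, mul_zsmul]
      _ = (t * (c - d)) • v := by rw [← h1, mul_zsmul]

/-- The combinations of a free vector and its image. -/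
def comb (p : ℕ) (I : AddMonoid.End M) (u : M) : Fin p × Fin p → M :=
  fun ab => ((ab.1 : ℕ) : ℤ) • u + ((ab.2 : ℕ) : ℤ) • I u

omit hp [Finite M] in
theorem comb_injective (u : M)
    (hu : ∀ a b : ℤ, a • u + b • I u = 0 → (p : ℤ) ∣ a ∧ (p : ℤ) ∣ b) :
    Function.Injective (comb p I u) := by
  rintro ⟨a, b⟩ ⟨a', b'⟩ hab
  have := a.isLt
  have := a'.isLt
  have := b.isLt
  have := b'.isLt
  have hdiv := hu ((a : ℕ) - (a' : ℕ) : ℤ) ((b : ℕ) - (b' : ℕ) : ℤ) (by
    unfold comb at hab
    linear_combination (norm := module) hab)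
  have e1 := Int.eq_zero_of_abs_lt_dvd hdiv.1 (abs_lt.mpr ⟨by omega, by omega⟩)
  have e2 := Int.eq_zero_of_abs_lt_dvd hdiv.2 (abs_lt.mpr ⟨by omega, by omega⟩)
  exact Prod.ext (Fin.ext (show (a : ℕ) = a' by omega)) (Fin.ext (show (b : ℕ) = b' by omega))

theorem sq_le_card (h : QPair I J p) {W : AddSubgroup M} (hW : QInv I J W) {v : M} (hvW : v ∈ W)
    (hv : v ≠ 0) : p ^ 2 ≤ Nat.card W := by
  obtain ⟨u, hu, hfree⟩ := h.exists_free hW hvW hv
  have h1 := Nat.card_le_card_of_injective (fun ab => (⟨comb p I u ab,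
    add_mem (zsmul_mem hu _) (zsmul_mem (hW u hu).1 _)⟩ : W))
    (fun a b hab => comb_injective u hfree (congrArg Subtype.val hab))
  rwa [Nat.card_prod, Nat.card_fin, ← sq] at h1

theorem exists_comb (h : QPair I J p) {W : AddSubgroup M} (hW : QInv I J W)
    (hcard : Nat.card W ≤ p ^ 2) {u : M} (hu : u ∈ W)
    (hfree : ∀ a b : ℤ, a • u + b • I u = 0 → (p : ℤ) ∣ a ∧ (p : ℤ) ∣ b) {x : M} (hx : x ∈ W) :
    ∃ a b : ℤ, x = a • u + b • I u := by
  have _ := h
  let f : Fin p × Fin p → W := fun ab => ⟨comb p I u ab,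
    add_mem (zsmul_mem hu _) (zsmul_mem (hW u hu).1 _)⟩
  have hf : Function.Injective f := fun a b hab =>
    comb_injective u hfree (congrArg Subtype.val hab)
  have hb : Function.Bijective f := (Nat.bijective_iff_injective_and_card f).mpr
    ⟨hf, le_antisymm (Nat.card_le_card_of_injective f hf)
      (by rwa [Nat.card_prod, Nat.card_fin, ← sq])⟩
  obtain ⟨ab, hab⟩ := hb.2 ⟨x, hx⟩
  exact ⟨_, _, (congrArg Subtype.val hab).symm⟩

/-- Some vector lies in an invariant subgroup of order at most `p ^ 2`. -/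
theorem exists_small (h : QPair I J p) (hM : ∃ v : M, v ≠ 0) :
    ∃ v : M, v ≠ 0 ∧ ∃ W : AddSubgroup M, v ∈ W ∧ QInv I J W ∧ Nat.card W ≤ p ^ 2 := by
  obtain ⟨a, b, hab⟩ := ZMod.sq_add_sq p (-1)
  set A : ℤ := (a.val : ℤ) with hA
  set B : ℤ := (b.val : ℤ) with hB
  have hdvd : (p : ℤ) ∣ A * A + B * B + 1 := by
    rw [← ZMod.intCast_zmod_eq_zero_iff_dvd]
    push_cast [hA, hB]
    rw [ZMod.natCast_zmod_val, ZMod.natCast_zmod_val]
    linear_combination hab
  by_cases hX : ∃ w, A • w - B • I w - J w ≠ 0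
  · obtain ⟨w, hw⟩ := hX
    set v := A • w - B • I w - J w with hvdef
    have hJv : J v = -(A • v) - B • I v := by
      have h0 := h.zsmul_zero w hdvd
      have e1 : I v = A • I w + B • w - I (J w) := by
        rw [hvdef, map_sub, map_sub, map_zsmul, map_zsmul, h.sqI]; module
      have e2 : J v = A • J w + B • I (J w) + w := by
        rw [hvdef, map_sub, map_sub, map_zsmul, map_zsmul, h.sqJ, h.anti]; module
      rw [e1, e2, hvdef]
      linear_combination (norm := module) h0
    clear_value v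
    let W : AddSubgroup M :=
      { carrier := {x | ∃ c d : ℤ, x = c • v + d • I v}
        zero_mem' := ⟨0, 0, by module⟩
        add_mem' := by
          rintro x y ⟨c, d, rfl⟩ ⟨c', d', rfl⟩
          exact ⟨c + c', d + d', by module⟩
        neg_mem' := by
          rintro x ⟨c, d, rfl⟩
          exact ⟨-c, -d, by module⟩ }
    refine ⟨v, hw, W, ⟨1, 0, by module⟩, ?_, ?_⟩
    · rintro _ ⟨c, d, rfl⟩
      refine ⟨⟨-d, c, ?_⟩, ⟨-(c * A) - d * B, d * A - c * B, ?_⟩⟩
      · rw [map_add, map_zsmul, map_zsmul, h.sqI]; module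
      · rw [map_add, map_zsmul, map_zsmul, h.anti, hJv, map_sub, map_neg, map_zsmul, map_zsmul,
          h.sqI]
        module
    · have hsurj : Function.Surjective (fun ab : Fin p × Fin p => (⟨comb p I v ab,
          ⟨_, _, rfl⟩⟩ : W)) := by
        rintro ⟨_, c, d, rfl⟩
        have hp0 : (0 : ℤ) < p := by exact_mod_cast hp.out.pos
        have hc : ((c % p).toNat : ℤ) = c % p := Int.toNat_of_nonneg (Int.emod_nonneg _ hp0.ne')
        have hd : ((d % p).toNat : ℤ) = d % p := Int.toNat_of_nonneg (Int.emod_nonneg _ hp0.ne')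
        refine ⟨(⟨(c % p).toNat, ?_⟩, ⟨(d % p).toNat, ?_⟩), Subtype.ext ?_⟩
        · have := Int.emod_lt_of_pos c hp0; omega
        · have := Int.emod_lt_of_pos d hp0; omega
        show ((c % p).toNat : ℤ) • v + ((d % p).toNat : ℤ) • I v = c • v + d • I v
        rw [hc, hd]
        have e : ∀ (z : M) (n : ℤ), (n % (p : ℤ)) • z = n • z := fun z n => by
          nth_rewrite 2 [← Int.mul_ediv_add_emod n p]
          rw [add_zsmul, h.zsmul_zero z (dvd_mul_right _ _), zero_add]
        rw [e, e]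
      have := Nat.card_le_card_of_surjective _ hsurj
      rwa [Nat.card_prod, Nat.card_fin, ← sq] at this
  · exfalso
    push Not at hX
    obtain ⟨w, hw⟩ := hM
    have hJ : ∀ z, J z = A • z - B • I z := fun z => by linear_combination (norm := module) -(hX z)
    have h1 : J (I w) = A • I w + B • w := by rw [hJ, h.sqI]; module
    have h2 : I (J w) = A • I w + B • w := by rw [hJ, map_sub, map_zsmul, map_zsmul, h.sqI]; module
    have h3 : I (J w) = 0 := h.eq_zero_of_double (by
      have := h.anti w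
      rw [h1, ← h2] at this
      exact this)
    have h4 : J w = 0 := by
      have := congrArg I h3
      rwa [h.sqI, map_zero, neg_eq_zero] at this
    have := h.sqJ w
    rw [h4, map_zero] at this
    exact hw (neg_eq_zero.mp this.symm)

/-- If every vector lies in a small invariant subgroup, there is no proper invariant subgroup. -/
theorem irreducible (h : QPair I J p)
    (hall : ∀ v : M, v ≠ 0 → ∃ W : AddSubgroup M, v ∈ W ∧ QInv I J W ∧ Nat.card W ≤ p ^ 2)
    {U : AddSubgroup M} (hU : QInv I J U) (hne : U ≠ ⊥) : U = ⊤ := by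
  by_contra htop
  obtain ⟨v, hvU, hv⟩ : ∃ v ∈ U, v ≠ 0 := by
    by_contra hcon
    push Not at hcon
    exact hne ((AddSubgroup.eq_bot_iff_forall _).mpr hcon)
  obtain ⟨W₁, hvW, hW₁, hc₁⟩ := hall v hv
  have hW1top : W₁ ≠ ⊤ := fun he => htop (AddSubgroup.eq_top_of_card_eq _ (le_antisymm
    (Nat.card_le_card_of_injective _ Subtype.val_injective) (by
      rw [he, AddSubgroup.card_top] at hc₁
      exact hc₁.trans (h.sq_le_card hU hvU hv))))
  obtain ⟨u, hu, hfree⟩ := h.exists_free hW₁ hvW hv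
  obtain ⟨a, b, hab⟩ := h.exists_comb hW₁ hc₁ hu hfree (hW₁ u hu).2
  have key : ∀ x ∉ W₁, J x = a • x + b • I x := by
    intro x hx
    have hx0 : x ≠ 0 := fun e => hx (e ▸ zero_mem _)
    obtain ⟨W₂, hxW, hW₂, hc₂⟩ := hall x hx0
    have hD : ∀ z ∈ W₁, z ∈ W₂ → z = 0 := by
      intro z hz1 hz2
      by_contra hz
      have hD2 := h.sq_le_card (W := W₁ ⊓ W₂)
        (fun d hd => ⟨⟨(hW₁ d hd.1).1, (hW₂ d hd.2).1⟩, ⟨(hW₁ d hd.1).2, (hW₂ d hd.2).2⟩⟩)
        ⟨hz1, hz2⟩ hz
      have h2 : W₁ ⊓ W₂ = W₂ := AddSubgroup.eq_of_le_of_card_ge inf_le_right (hc₂.trans hD2)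
      have hxI : x ∈ W₁ ⊓ W₂ := by rw [h2]; exact hxW
      exact hx hxI.1
    obtain ⟨W₃, hyW, hW₃, hc₃⟩ := hall (u + x) (fun e => hx (by
      rw [← neg_eq_of_add_eq_zero_right e]; exact neg_mem hu))
    have hfree' : ∀ c d : ℤ, c • (u + x) + d • I (u + x) = 0 → (p : ℤ) ∣ c ∧ (p : ℤ) ∣ d := by
      intro c d he
      refine hfree c d (hD _ (add_mem (zsmul_mem hu _) (zsmul_mem (hW₁ u hu).1 _)) ?_)
      rw [show c • u + d • I u = -(c • x + d • I x) by
        rw [map_add] at he
        linear_combination (norm := module) he]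
      exact neg_mem (add_mem (zsmul_mem hxW _) (zsmul_mem (hW₂ x hxW).1 _))
    obtain ⟨c, d, hcd⟩ := h.exists_comb hW₃ hc₃ hyW hfree' (hW₃ _ hyW).2
    rw [map_add, map_add, hab] at hcd
    have h0 := hD ((c - a) • u + (d - b) • I u)
      (add_mem (zsmul_mem hu _) (zsmul_mem (hW₁ u hu).1 _)) (by
        rw [show (c - a) • u + (d - b) • I u = J x - (c • x + d • I x) by
          linear_combination (norm := module) -hcd]
        exact sub_mem (hW₂ x hxW).2 (add_mem (zsmul_mem hxW _) (zsmul_mem (hW₂ x hxW).1 _)))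
    obtain ⟨h1, h2⟩ := hfree _ _ h0
    linear_combination (norm := module) hcd + h.zsmul_zero x h1 + h.zsmul_zero (I x) h2 + h0
  obtain ⟨x, hx⟩ : ∃ x, x ∉ W₁ := by
    by_contra hcon
    push Not at hcon
    exact hW1top ((AddSubgroup.eq_top_iff' _).mpr hcon)
  have hIx : I x ∉ W₁ := fun e => hx (by
    have := (hW₁ _ e).1
    rw [h.sqI] at this
    exact neg_mem_iff.mp this)
  have h1 : J (I x) = I (J x) := by
    rw [key _ hIx, key x hx, map_add, map_zsmul, map_zsmul]
  have h3 : I (J x) = 0 := h.eq_zero_of_double (by rw [← h.anti, h1])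
  have h4 : J x = 0 := by
    have := congrArg I h3
    rwa [h.sqI, map_zero, neg_eq_zero] at this
  have := h.sqJ x
  rw [h4, map_zero] at this
  exact hx (neg_eq_zero.mp this.symm ▸ zero_mem _)

end QPair

end Module

namespace LineAction

variable {H : Type*} [Group H] [Finite H] {M : Type*} [AddCommGroup M] {p : ℕ}
  {ρ : H →* AddMonoid.End M}

/-- An element centralizing all cores lies in the Fitting subgroup. -/
theorem mem_fitting_of_centralizes_cores [Group.IsSolvable H] {x : H}
    (h : ∀ r : Nat.Primes, x ∈ centralizer (Cfsg.pCore (r : ℕ) H : Set H)) :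
    x ∈ Cfsg.fittingSubgroup H := by
  refine Solvable.centralizer_fittingSubgroup_le ?_
  rw [Solvable.fittingSubgroup_eq_iSup, mem_centralizer_iff]
  intro a ha
  have : (⨆ r : Nat.Primes, Cfsg.pCore (r : ℕ) H) ≤ centralizer ({x} : Set H) := iSup_le
    fun r b hb => mem_centralizer_singleton_iff.mpr (mem_centralizer_iff.mp (h r) b hb)
  exact mem_centralizer_singleton_iff.mp (this ha)

/-- A quaternion Sylow 2-subgroup is normal. -/
theorem sylow_two_normal (L : LineAction H M p ρ) (Q : Sylow 2 H)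
    (e : ↥(Q : Subgroup H) ≃* QuaternionGroup 2) : (Q : Subgroup H).Normal := by
  haveI := L.solv
  have hQR : Cfsg.pCore 2 H ≤ (Q : Subgroup H) := Solvable.pCore_le_sylow Q
  set i : ↥(Q : Subgroup H) := e.symm (QuaternionGroup.a 1) with hi
  set j : ↥(Q : Subgroup H) := e.symm (QuaternionGroup.xa 0) with hj
  haveI : Fact (Nat.Prime 2) := ⟨Nat.prime_two⟩
  have h4 : ∀ d : QuaternionGroup 2, d ^ 2 ≠ 1 → d ^ 4 = 1 →
      orderOf ((e.symm d : ↥(Q : Subgroup H)) : H) = 4 := fun d h1 h2 => by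
    rw [orderOf_coe, MulEquiv.orderOf_eq]
    exact orderOf_eq_prime_pow (p := 2) (n := 1) (by simpa using h1) (by simpa using h2)
  have hi4 : orderOf (i : H) = 4 := h4 _ (by decide) (by decide)
  have hj4 : orderOf (j : H) = 4 := h4 _ (by decide) (by decide)
  have hij4 : orderOf ((i : H) * j) = 4 := by
    rw [← Subgroup.coe_mul, hi, hj, ← map_mul]
    exact h4 _ (by decide) (by decide)
  by_contra hnot
  have hno4 : ∀ x ∈ Cfsg.pCore 2 H, orderOf x ≠ 4 := by
    intro x hx h
    haveI := Solvable.pCore_normal (G := H) 2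
    refine hnot ?_
    rw [le_antisymm (q8_generate e fun y _ hy => mem_of_orderOf_eq L.hyp (hy.trans h.symm) hx) hQR]
    infer_instance
  have hcore : ∀ r : Nat.Primes, (i : H) ∈ centralizer (Cfsg.pCore (r : ℕ) H : Set H) := by
    intro r
    haveI := Fact.mk r.2
    by_cases hr2 : (r : ℕ) = 2
    · rw [hr2, mem_centralizer_iff]
      intro a ha
      have ha2 : (⟨a, hQR ha⟩ : ↥(Q : Subgroup H)) ^ 2 = 1 := by
        by_contra hne
        refine hno4 a ha ?_
        rw [show a = ((e.symm (e ⟨a, hQR ha⟩) : ↥(Q : Subgroup H)) : H) by simp]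
        refine h4 _ (fun h => hne (e.injective (by rw [map_pow, h, map_one]))) ?_
        have : ∀ b : QuaternionGroup 2, b ^ 4 = 1 := by decide
        exact this _
      have key : ∀ b c : QuaternionGroup 2, b ^ 2 = 1 → b * c = c * b := by decide
      exact congrArg Subtype.val (e.injective (show e (⟨a, hQR ha⟩ * i) = e (i * ⟨a, hQR ha⟩) by
        rw [map_mul, map_mul, key _ _ (by rw [← map_pow, ha2, map_one])]))
    · by_cases hR : Cfsg.pCore (r : ℕ) H = ⊥
      · rw [hR, mem_centralizer_iff]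
        intro a ha
        rw [show a = 1 from ha, one_mul, mul_one]
      have hRn : (Cfsg.pCore (r : ℕ) H).Normal := Solvable.pCore_normal _
      rcases cyclic_or_q8 L.hyp (Solvable.isPGroup_pCore r)
        ((L.uniqueP_of_core hR).noRankTwo.hasUniqueOrderP (Solvable.isPGroup_pCore r)) with
        hc | ⟨h, -⟩
      swap
      · exact absurd h hr2
      set φ := MulAut.conjNormal (H := Cfsg.pCore (r : ℕ) H) with hφ
      have hrel : ∀ y : H, orderOf y = 4 → ∃ k : ℤ, Odd k ∧ φ y = φ (i : H) ^ k := by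
        intro y hy
        obtain ⟨g, hg⟩ := exists_conj_mem L.hyp (hy.trans hi4.symm)
        obtain ⟨k, hk⟩ := Subgroup.mem_zpowers_iff.mp hg
        refine ⟨k, ?_, by rw [← map_zpow, hk, conjNormal_conj hc]⟩
        by_contra hodd
        obtain ⟨t, rfl⟩ := even_iff_two_dvd.mp (Int.not_odd_iff_even.mp hodd)
        have h2 : (g * y * g⁻¹) ^ 2 = 1 := by
          rw [← hk, ← zpow_natCast, ← zpow_mul, show (2 : ℤ) * t * (2 : ℕ) = (4 : ℕ) * t by
            push_cast; ring, zpow_mul, zpow_natCast, ← hi4, pow_orderOf_eq_one, one_zpow]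
        rw [conj_pow, mul_inv_eq_one, mul_eq_left] at h2
        have := orderOf_dvd_of_pow_eq_one h2
        rw [hy] at this
        norm_num at this
      obtain ⟨k, ⟨k', rfl⟩, hk⟩ := hrel _ hj4
      obtain ⟨m, ⟨m', rfl⟩, hm⟩ := hrel _ hij4
      rw [map_mul, hk, ← zpow_one_add] at hm
      set n : ℤ := 2 * (k' - m') + 1 with hn
      have hn1 : φ (i : H) ^ n = 1 := by
        rw [show n = (1 + (2 * k' + 1)) - (2 * m' + 1) by rw [hn]; ring, zpow_sub, hm, mul_inv_cancel]
      have h41 : φ (i : H) ^ (4 : ℤ) = 1 := by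
        rw [show (4 : ℤ) = ((4 : ℕ) : ℤ) from rfl, zpow_natCast, ← map_pow, ← hi4,
          pow_orderOf_eq_one, map_one]
      refine mem_centralizer_iff_conjNormal.mpr ?_
      calc φ (i : H) = φ (i : H) ^ (n * n + 4 * (-((k' - m') ^ 2 + (k' - m')))) := by
            rw [show n * n + 4 * (-((k' - m') ^ 2 + (k' - m'))) = 1 by rw [hn]; ring, zpow_one]
        _ = 1 := by rw [zpow_add, zpow_mul, zpow_mul, hn1, h41, one_zpow, one_zpow, one_mul]
  have hiF := mem_fitting_of_centralizes_cores hcore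
  exact hno4 _ (mem_core_of_mem_fitting hiF
    (IsPGroup.of_card (n := 2) (by rw [Nat.card_zpowers, hi4]; rfl))) hi4

end LineAction

end CfsgLib.BGroups
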